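import Mathlib
import Cfsg.Prelude.Def_Local
import Cfsg.Agent.Lib.Lead.Basic
import Cfsg.Agent.Lib.Lead.Coprime
import Cfsg.Agent.Lib.Helper3.PPrimeP

set_option autoImplicit false

namespace Cfsg.Agent.Lib.Helper3

universe u

/-- quotients of `p`-solvable groups are `p`-solvable -/
theorem isPSolvable_quotient {G : Type*} [Group G] (p : ℕ) [Fact p.Prime] (M : Subgroup G) [M.Normal]
    (h : Cfsg.IsPSolvable p G) : Cfsg.IsPSolvable p (G ⧸ M) := by
  obtain ⟨n, H, h0, hn, hmono, hnorm, hfac⟩ := h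
  refine ⟨n, fun i => (H i).map (QuotientGroup.mk' M), ?_, ?_, ?_, ?_, ?_⟩
  · show (H 0).map (QuotientGroup.mk' M) = ⊥
    rw [h0, Subgroup.map_bot]
  · show (H (Fin.last n)).map (QuotientGroup.mk' M) = ⊤
    rw [hn]; exact Subgroup.map_top_of_surjective _ (QuotientGroup.mk'_surjective M)
  · intro i j hij; exact Subgroup.map_mono (hmono hij)
  · intro i; exact (hnorm i).map _ (QuotientGroup.mk'_surjective M)
  · intro i
    have hdvd : ((H i.castSucc).map (QuotientGroup.mk' M)).relIndex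
        ((H i.succ).map (QuotientGroup.mk' M)) ∣ (H i.castSucc).relIndex (H i.succ) := by
      rw [← Subgroup.relIndex_comap, Subgroup.comap_map_eq]
      exact Subgroup.relIndex_dvd_of_le_left _ le_sup_left
    rcases hfac i with ⟨m, hm⟩ | hc
    · left
      rw [hm] at hdvd
      obtain ⟨m', -, hm'⟩ := (Nat.dvd_prime_pow Fact.out).mp hdvd
      exact ⟨m', hm'⟩
    · right
      exact Nat.Coprime.coprime_dvd_left hdvd hc

/-- a nontrivial finite `p`-solvable group has a nontrivial normal subgroup which is a `p`-group or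
a `p'`-group -/
theorem exists_normal_pgroup_or_coprime {G : Type*} [Group G] [Finite G] [Nontrivial G] {p : ℕ}
    [Fact p.Prime] (h : Cfsg.IsPSolvable p G) :
    ∃ M : Subgroup G, M.Normal ∧ M ≠ ⊥ ∧ (IsPGroup p M ∨ (Nat.card M).Coprime p) := by
  obtain ⟨n, H, h0, hn, hmono, hnorm, hfac⟩ := h
  have hex : ∃ i : Fin n, H i.castSucc = ⊥ ∧ H i.succ ≠ ⊥ := by
    by_contra hcon
    push Not at hcon
    have hall : ∀ j : Fin (n + 1), H j = ⊥ := by
      intro j
      induction j using Fin.induction with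
      | zero => exact h0
      | succ i ih => exact hcon i ih
    have := hall (Fin.last n)
    rw [hn] at this
    exact top_ne_bot this
  obtain ⟨i, hi0, hi1⟩ := hex
  refine ⟨H i.succ, hnorm _, hi1, ?_⟩
  rcases hfac i with ⟨m, hm⟩ | hc
  · left
    rw [hi0, Subgroup.relIndex_bot_left] at hm
    exact IsPGroup.of_card hm
  · right
    rwa [hi0, Subgroup.relIndex_bot_left] at hc

/-- In a finite `p`-solvable group, a `p`-element normalizing a `p'`-subgroup `Q` that normalizes
a Sylow `p`-subgroup centralizes `Q`. -/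
theorem pelt_centralizes_of_normalizes_sylow : ∀ (n : ℕ) (G : Type u) [Group G] [Finite G] (p : ℕ)
    [Fact p.Prime], Nat.card G ≤ n → Cfsg.IsPSolvable p G → ∀ (Q : Subgroup G) (P : Sylow p G) (x : G),
    ¬ p ∣ Nat.card Q → (∀ q ∈ Q, ∀ y ∈ (P : Subgroup G), q * y * q⁻¹ ∈ (P : Subgroup G)) →
    (∀ q ∈ Q, x * q * x⁻¹ ∈ Q) → (∃ k : ℕ, orderOf x = p ^ k) → ∀ q ∈ Q, x * q = q * x := by
  intro n
  induction n with
  | zero =>
    intro G _ _ p _ hcard
    have := Nat.card_pos (α := G)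
    omega
  | succ n ih =>
    intro G _ _ p _ hcard hsolv Q P x hQ hQP hxQ hxp q hq
    by_cases hnt : Nontrivial G
    swap
    · rw [not_nontrivial_iff_subsingleton] at hnt
      exact Subsingleton.elim _ _
    obtain ⟨M, hMn, hM1, hMcase⟩ := exists_normal_pgroup_or_coprime hsolv
    have hQc : (Nat.card Q).Coprime p :=
      ((Nat.Prime.coprime_iff_not_dvd Fact.out).mpr hQ).symm
    have hsurj := QuotientGroup.mk'_surjective M
    have hcardq : Nat.card (G ⧸ M) ≤ n := by
      have h1 := Subgroup.card_eq_card_quotient_mul_card_subgroup M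
      have h2 : 1 < Nat.card M := (Subgroup.one_lt_card_iff_ne_bot M).mpr hM1
      have h3 : 0 < Nat.card (G ⧸ M) := Nat.card_pos
      nlinarith
    have hxp' : ∃ k : ℕ, orderOf ((QuotientGroup.mk' M) x) = p ^ k := by
      obtain ⟨k, hk⟩ := hxp
      have hd := orderOf_map_dvd (QuotientGroup.mk' M) x
      rw [hk] at hd
      obtain ⟨k', -, hk'⟩ := (Nat.dvd_prime_pow Fact.out).mp hd
      exact ⟨k', hk'⟩
    have hquot := ih (G ⧸ M) p hcardq (isPSolvable_quotient p M hsolv) (Q.map (QuotientGroup.mk' M))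
      (P.mapSurjective hsurj) ((QuotientGroup.mk' M) x)
      (fun hd => hQ (hd.trans (Subgroup.card_map_dvd _ _)))
      (by
        rintro q' ⟨q₀, hq₀, rfl⟩ y' hy'
        rw [Sylow.coe_mapSurjective] at hy' ⊢
        obtain ⟨y₀, hy₀, rfl⟩ := hy'
        exact ⟨q₀ * y₀ * q₀⁻¹, hQP q₀ hq₀ y₀ hy₀, by simp⟩)
      (by
        rintro q' ⟨q₀, hq₀, rfl⟩
        exact ⟨x * q₀ * x⁻¹, hxQ q₀ hq₀, by simp⟩)
      hxp'
    -- commutators of `x` (and its powers) with `Q` lie in `M`
    have hcommM : ∀ a ∈ Subgroup.zpowers x, ∀ q₀ ∈ Q, q₀ * a * q₀⁻¹ * a⁻¹ ∈ M := by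
      intro a ha q₀ hq₀
      obtain ⟨i, rfl⟩ := Subgroup.mem_zpowers_iff.mp ha
      have h1 := hquot _ ⟨q₀, hq₀, rfl⟩
      have h2 : Commute ((QuotientGroup.mk' M) x) ((QuotientGroup.mk' M) q₀) := h1
      have h3 := (h2.zpow_left i).eq
      rw [← (QuotientGroup.eq_one_iff _)]
      have e : ((q₀ * x ^ i * q₀⁻¹ * (x ^ i)⁻¹ : G) : G ⧸ M) =
          (QuotientGroup.mk' M) q₀ * ((QuotientGroup.mk' M) x) ^ i * ((QuotientGroup.mk' M) q₀)⁻¹ *
            (((QuotientGroup.mk' M) x) ^ i)⁻¹ := by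
        simp
      rw [e, ← h3]; group
    have hxx : x ∈ Subgroup.zpowers x := Subgroup.mem_zpowers x
    rcases hMcase with hMp | hMc
    · -- `M` a `p`-group: the commutator lies in `Q ∩ M = 1`
      have h1 := hcommM x hxx q hq
      have h2 : q * x * q⁻¹ * x⁻¹ ∈ Q := by
        have h3 := hxQ q⁻¹ (Subgroup.inv_mem _ hq)
        have e : q * x * q⁻¹ * x⁻¹ = q * (x * q⁻¹ * x⁻¹) := by group
        rw [e]; exact Subgroup.mul_mem _ hq h3
      have h3 := eq_one_of_mem_coprime_of_mem_pgroup Q M hQc hMp h2 h1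
      have e : x * q = (q * x * q⁻¹ * x⁻¹)⁻¹ * (q * x) := by group
      rw [e, h3]; group
    · -- `M` a `p'`-group
      have hxN : x ∈ Subgroup.normalizer (Q : Set G) :=
        mem_normalizer_of_forall_conj_mem Q x hxQ
      -- `Q ⊓ M` centralizes `P`
      have hQ₁P : ∀ q₁ ∈ Q ⊓ M, ∀ y ∈ (P : Subgroup G), q₁ * y = y * q₁ := by
        intro q₁ hq₁ y hy
        have h1 : q₁ * y * q₁⁻¹ * y⁻¹ ∈ (P : Subgroup G) :=
          Subgroup.mul_mem _ (hQP q₁ hq₁.1 y hy) (Subgroup.inv_mem _ hy)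
        have h2 : q₁ * y * q₁⁻¹ * y⁻¹ ∈ M := by
          have e : q₁ * y * q₁⁻¹ * y⁻¹ = q₁ * (y * q₁⁻¹ * y⁻¹) := by group
          rw [e]
          exact Subgroup.mul_mem _ hq₁.2 (hMn.conj_mem _ (Subgroup.inv_mem _ hq₁.2) y)
        have h3 := eq_one_of_mem_coprime_of_mem_pgroup M (P : Subgroup G) hMc P.isPGroup' h2 h1
        have e : q₁ * y = (q₁ * y * q₁⁻¹ * y⁻¹) * (y * q₁) := by group
        rw [e, h3, one_mul]
      -- `x` centralizes `Q ⊓ M`
      have hxQ₁N : x ∈ Subgroup.normalizer ((Q ⊓ M : Subgroup G) : Set G) := by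
        apply mem_normalizer_of_forall_conj_mem
        intro a ha
        exact Subgroup.mem_inf.mpr ⟨hxQ a ha.1, hMn.conj_mem _ ha.2 x⟩
      have hPN : (P : Subgroup G) ≤ Subgroup.normalizer ((Q ⊓ M : Subgroup G) : Set G) := by
        intro y hy
        apply mem_normalizer_of_forall_conj_mem
        intro a ha
        have := hQ₁P a ha y hy
        have e : y * a * y⁻¹ = a := by rw [← this]; group
        rw [e]; exact ha
      have hidx : ¬ p ∣ (P : Subgroup G).relIndex (Subgroup.normalizer ((Q ⊓ M : Subgroup G) : Set G)) :=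
        fun hd => P.not_dvd_index (hd.trans (Subgroup.relIndex_dvd_index_of_le hPN))
      have hzp : IsPGroup p (Subgroup.zpowers x) := by
        obtain ⟨k, hk⟩ := hxp
        apply IsPGroup.of_card (n := k)
        rw [Nat.card_zpowers, hk]
      obtain ⟨c, hc, hcx⟩ := conj_into_sylowIn (Subgroup.normalizer ((Q ⊓ M : Subgroup G) : Set G))
        (P : Subgroup G) (Subgroup.zpowers x) P.isPGroup' hidx
        (by rw [Subgroup.zpowers_le]; exact hxQ₁N) hzp
      have hxQ₁ : ∀ q₁ ∈ Q ⊓ M, x * q₁ = q₁ * x := by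
        intro q₁ hq₁
        have h1 : c * q₁ * c⁻¹ ∈ Q ⊓ M := (Subgroup.mem_normalizer_iff.mp hc q₁).mp hq₁
        have h2 := hQ₁P _ h1 _ (hcx x hxx)
        calc x * q₁ = c⁻¹ * ((c * x * c⁻¹) * (c * q₁ * c⁻¹)) * c := by group
          _ = c⁻¹ * ((c * q₁ * c⁻¹) * (c * x * c⁻¹)) * c := by rw [h2]
          _ = q₁ * x := by group
      -- coprime action of `⟨x⟩` on `Q`
      have hAK : Subgroup.zpowers x ≤ Subgroup.normalizer (Q : Set G) := by
        rw [Subgroup.zpowers_le]; exact hxN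
      have hcop : (Nat.card (Subgroup.zpowers x)).Coprime (Nat.card Q) := by
        obtain ⟨k, hk⟩ := hxp
        rw [Nat.card_zpowers, hk]
        exact Nat.Coprime.pow_left k hQc.symm
      have hsolvA : Group.IsSolvable (Subgroup.zpowers x) := by
        have := hzp.isNilpotent
        infer_instance
      obtain ⟨d, hd, c', hc', hqdc⟩ := Cfsg.Agent.Lib.Lead.exists_commutator_mul_centralizer
        (Subgroup.zpowers x) Q hAK hcop (Or.inl hsolvA) hq
      have hdQ₁ : d ∈ Q ⊓ M := by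
        have hle : ⁅Q, Subgroup.zpowers x⁆ ≤ Q ⊓ M := by
          rw [Subgroup.commutator_le]
          intro q₀ hq₀ a ha
          rw [commutatorElement_def]
          refine Subgroup.mem_inf.mpr ⟨?_, hcommM a ha q₀ hq₀⟩
          have h3 : a * q₀⁻¹ * a⁻¹ ∈ Q :=
            (Subgroup.mem_normalizer_iff.mp (hAK ha) q₀⁻¹).mp (Subgroup.inv_mem _ hq₀)
          have e : q₀ * a * q₀⁻¹ * a⁻¹ = q₀ * (a * q₀⁻¹ * a⁻¹) := by group
          rw [e]; exact Subgroup.mul_mem _ hq₀ h3
        exact hle hd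
      have hxc' : x * c' = c' * x := (Subgroup.mem_centralizer_iff.mp hc'.2) x hxx
      rw [hqdc]
      calc x * (d * c') = (x * d) * c' := by group
        _ = (d * x) * c' := by rw [hxQ₁ d hdQ₁]
        _ = d * (x * c') := by group
        _ = d * (c' * x) := by rw [hxc']
        _ = d * c' * x := by group

end Cfsg.Agent.Lib.Helper3
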