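import Mathlib
import Cfsg.Prelude.Def_ChevE6
import Cfsg.Prelude.Def_ChevD4
import Cfsg.Agent.Lib.Helper3.ChevGraph

set_option autoImplicit false

namespace Cfsg.Agent.Lib.Helper3

open Cfsg.Lie

def gdE6 : GraphData where
  rho0 := [5, 1, 4, 3, 2, 0]
  rho0inv := [5, 1, 4, 3, 2, 0]
  rho := [0, 1, 2, 5, 16, 3, 6, 17, 8, 19, 22, 11, 26, 30, 33, 35, 4, 7, 18, 9, 20, 23, 10, 21, 24, 25, 12, 27, 31, 34, 13, 28, 32, 14, 29, 15, 56, 42, 57, 39, 43, 58, 37, 40, 44, 59, 46, 47, 50, 61, 48, 51, 62, 53, 64, 67, 36, 38, 41, 45, 60, 49, 52, 63, 54, 65, 68, 55, 66, 69, 70, 71]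
  rhoinv := [0, 1, 2, 5, 16, 3, 6, 17, 8, 19, 22, 11, 26, 30, 33, 35, 4, 7, 18, 9, 20, 23, 10, 21, 24, 25, 12, 27, 31, 34, 13, 28, 32, 14, 29, 15, 56, 42, 57, 39, 43, 58, 37, 40, 44, 59, 46, 47, 50, 61, 48, 51, 62, 53, 64, 67, 36, 38, 41, 45, 60, 49, 52, 63, 54, 65, 68, 55, 66, 69, 70, 71]
  eps := [1, 1, 1, 1, -1, 1, 1, -1, 1, -1, -1, 1, -1, 1, -1, 1, -1, -1, 1, -1, 1, 1, -1, 1, 1, 1, -1, 1, -1, 1, 1, -1, 1, -1, 1, 1, 1, 1, -1, 1, -1, 1, 1, -1, 1, -1, 1, 1, 1, -1, 1, 1, -1, 1, -1, -1, 1, -1, 1, -1, 1, -1, -1, 1, -1, 1, 1, -1, 1, 1, 1, 1]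

def gdD4a : GraphData where
  rho0 := [2, 1, 3, 0]
  rho0inv := [3, 1, 0, 2]
  rho := [0, 1, 6, 2, 7, 10, 3, 8, 4, 9, 11, 5, 18, 12, 14, 19, 15, 20, 13, 16, 21, 17, 22, 23]
  rhoinv := [0, 1, 3, 6, 8, 11, 2, 4, 7, 9, 5, 10, 13, 18, 14, 16, 19, 21, 12, 15, 17, 20, 22, 23]
  eps := [1, 1, -1, 1, -1, 1, -1, 1, -1, 1, 1, 1, 1, 1, 1, -1, 1, -1, 1, -1, 1, -1, 1, 1]

def gdD4b : GraphData where
  rho0 := [3, 1, 0, 2]
  rho0inv := [2, 1, 3, 0]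
  rho := [0, 1, 3, 6, 8, 11, 2, 4, 7, 9, 5, 10, 13, 18, 14, 16, 19, 21, 12, 15, 17, 20, 22, 23]
  rhoinv := [0, 1, 6, 2, 7, 10, 3, 8, 4, 9, 11, 5, 18, 12, 14, 19, 15, 20, 13, 16, 21, 17, 22, 23]
  eps := [1, 1, 1, -1, -1, 1, -1, -1, 1, 1, 1, 1, 1, 1, 1, 1, -1, -1, 1, -1, -1, 1, 1, 1]

set_option maxHeartbeats 0 in
theorem chkG1_E6 : chkG1 chevE6 gdE6 = true := by decide +kernel

set_option maxHeartbeats 0 in
theorem chkG2_E6 : chkG2 chevE6 gdE6 = true := by decide +kernel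

set_option maxHeartbeats 0 in
theorem chkG1_D4a : chkG1 chevD4 gdD4a = true := by decide +kernel

set_option maxHeartbeats 0 in
theorem chkG2_D4a : chkG2 chevD4 gdD4a = true := by decide +kernel

set_option maxHeartbeats 0 in
theorem chkG1_D4b : chkG1 chevD4 gdD4b = true := by decide +kernel

set_option maxHeartbeats 0 in
theorem chkG2_D4b : chkG2 chevD4 gdD4b = true := by decide +kernel

set_option maxHeartbeats 0 in
theorem chkG3_D4a : ∀ r < chevD4.nroots, chkG3 chevD4 gdD4a r = true := by decide +kernel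

set_option maxHeartbeats 0 in
theorem chkG3_D4b : ∀ r < chevD4.nroots, chkG3 chevD4 gdD4b r = true := by decide +kernel

end Cfsg.Agent.Lib.Helper3
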