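import Mathlib
import Cfsg.Agent.Lib.Helper3.ChevHN

set_option autoImplicit false
set_option linter.unusedVariables false
set_option linter.unusedSectionVars false

namespace Cfsg.Agent.Lib.Helper3

open Cfsg.Lie

section nact

variable {F : Type*} [Field F] (D : ChevalleyDatum)

theorem bottom_spec_n (hA : chkAdd D = true) (r : ℕ) (hr : r < D.nroots) (rn : ℕ) (hrn : rn < D.nroots)
    (hrn' : rn = D.negIdx.getD r 0) (hnn : D.negIdx.getD rn 0 = r)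
    (a₀ : ℕ) (L : List (ℕ × ℤ)) (hok : okRoot D r a₀ = true)
    (hup : chainEntries D r a₀ = [L]) (hdn : chainEntries D rn a₀ = [])
    (hB : chkBottom D r rn a₀ L = true) (t : F) (ht : t ≠ 0) :
    (∃ (s' : ℕ) (c : F), s' < D.nroots ∧
      nOp (Xl D r) (Xl D rn) t (Ev D a₀) = c • (Ev D s' : D.Idx → F)) ∧
    ∀ q ∈ L, ∃ (s' : ℕ) (c : F), s' < D.nroots ∧
      nOp (Xl D r) (Xl D rn) t (Ev D q.1) = c • (Ev D s' : D.Idx → F) := by
  obtain ⟨h0, h0r, h0n⟩ := okRoot_spec D r a₀ hok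
  have hLchk : chkAddList D r L = true :=
    chainEntries_chk D hA r hr a₀ L (by rw [hup]; exact List.mem_singleton.mpr rfl)
  have h0n' : a₀ ≠ rn := by rw [hrn']; exact h0n
  have h0r' : a₀ ≠ D.negIdx.getD rn 0 := by rw [hnn]; exact h0r
  rcases L with _ | ⟨⟨a₁, u₁⟩, _ | ⟨⟨a₂, u₂⟩, _ | ⟨⟨a₃, u₃⟩, _ | ⟨b, L⟩⟩⟩⟩
  · simp [chkBottom] at hB
  · simp only [chkBottom, Bool.and_eq_true, decide_eq_true_eq, beq_iff_eq] at hB
    obtain ⟨⟨⟨⟨hs1, hk1⟩, hdn1⟩, hp0⟩, hp1⟩ := hB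
    obtain ⟨h1, h1r, h1n⟩ := okRoot_spec D r a₁ hk1
    have h1n' : a₁ ≠ rn := by rw [hrn']; exact h1n
    have h1r' : a₁ ≠ D.negIdx.getD rn 0 := by rw [hnn]; exact h1r
    simp only [chkAddList, Bool.and_eq_true, List.isEmpty_iff] at hLchk
    obtain ⟨_, hup1⟩ := hLchk
    have key := string1n (Xl D r) (Xl D rn) (Ev D a₀) (Ev D a₁) ((u₁ : ℤ) : F) (sgn_specF u₁ hs1)
      (fun t => Xl_Ev_col1 D r a₀ hr h0 h0r h0n a₁ u₁ hup t)
      (fun t => Xl_Ev_col0 D r a₁ hr h1 h1r h1n hup1 t)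
      (fun u => Xl_Ev_col1 D rn a₁ hrn h1 h1n' h1r' a₀ u₁ hdn1 u)
      (fun u => Xl_Ev_col0 D rn a₀ hrn h0 h0n' h0r' hdn u) t ht
    refine ⟨⟨a₁, _, h1, key.1⟩, ?_⟩
    intro q hq
    simp only [List.mem_cons, List.not_mem_nil, or_false] at hq
    subst hq
    exact ⟨a₀, _, h0, key.2⟩
  · simp only [chkBottom, Bool.and_eq_true, decide_eq_true_eq, beq_iff_eq] at hB
    obtain ⟨⟨⟨⟨⟨⟨⟨hs1, hs2⟩, hk1⟩, hk2⟩, hdn2⟩, hp0⟩, hp1⟩, hp2⟩ := hB
    obtain ⟨h1, h1r, h1n⟩ := okRoot_spec D r a₁ hk1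
    obtain ⟨h2, h2r, h2n⟩ := okRoot_spec D r a₂ hk2
    have h1n' : a₁ ≠ rn := by rw [hrn']; exact h1n
    have h1r' : a₁ ≠ D.negIdx.getD rn 0 := by rw [hnn]; exact h1r
    have h2n' : a₂ ≠ rn := by rw [hrn']; exact h2n
    have h2r' : a₂ ≠ D.negIdx.getD rn 0 := by rw [hnn]; exact h2r
    simp only [chkAddList, Bool.and_eq_true, List.isEmpty_iff] at hLchk
    obtain ⟨⟨_, hsng⟩, hup2⟩ := hLchk
    obtain ⟨M', hup1, hM'⟩ := isSingle1_spec _ _ _ hsng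
    rw [decide_eq_true_eq] at hM'
    have hLc := chainEntries_chk D hA rn hrn a₂ _ (by rw [hdn2]; exact List.mem_singleton.mpr rfl)
    simp only [chkAddList, Bool.and_eq_true, List.isEmpty_iff] at hLc
    obtain ⟨⟨_, hsng'⟩, _⟩ := hLc
    obtain ⟨M'', hdn1, hM''⟩ := isSingle1_spec _ _ _ hsng'
    rw [decide_eq_true_eq] at hM''
    have e1 : u₁ = 1 ∨ u₁ = -1 := sgn_spec u₁ hs1
    have e2 : u₂ = 1 ∨ u₂ = -1 := sgn_spec u₂ hs2
    have hM'v : M' = 2 * u₁ * u₂ := by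
      rcases e1 with rfl | rfl <;> rcases e2 with rfl | rfl <;> omega
    have hM''v : M'' = 2 * u₁ := by
      rcases e1 with rfl | rfl <;> rcases e2 with rfl | rfl <;> omega
    subst hM'v hM''v
    have key := string2n (Xl D r) (Xl D rn) (Ev D a₀) (Ev D a₁) (Ev D a₂) ((u₁ : ℤ) : F) ((u₂ : ℤ) : F)
      (sgn_specF u₁ hs1) (sgn_specF u₂ hs2)
      (fun t => Xl_Ev_col2 D r a₀ hr h0 h0r h0n a₁ a₂ u₁ u₂ hup t)
      (fun t => by
        have := Xl_Ev_col1 (F := F) D r a₁ hr h1 h1r h1n a₂ (2 * u₁ * u₂) hup1 t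
        push_cast at this
        exact this)
      (fun t => Xl_Ev_col0 D r a₂ hr h2 h2r h2n hup2 t)
      (fun u => by
        have := Xl_Ev_col2 (F := F) D rn a₂ hrn h2 h2n' h2r' a₁ a₀ (u₂ * u₁) u₂ hdn2 u
        push_cast at this
        exact this)
      (fun u => by
        have := Xl_Ev_col1 (F := F) D rn a₁ hrn h1 h1n' h1r' a₀ (2 * u₁) hdn1 u
        push_cast at this
        exact this)
      (fun u => Xl_Ev_col0 D rn a₀ hrn h0 h0n' h0r' hdn u) t ht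
    refine ⟨⟨a₂, _, h2, key.1⟩, ?_⟩
    intro q hq
    simp only [List.mem_cons, List.not_mem_nil, or_false] at hq
    rcases hq with rfl | rfl
    · exact ⟨a₁, _, h1, key.2.1⟩
    · exact ⟨a₀, _, h0, key.2.2⟩
  · simp only [chkBottom, Bool.and_eq_true, decide_eq_true_eq, beq_iff_eq] at hB
    obtain ⟨⟨⟨⟨⟨⟨⟨⟨⟨⟨hs1, hs2⟩, hs3⟩, hk1⟩, hk2⟩, hk3⟩, hdn3⟩, hp0⟩, hp1⟩, hp2⟩, hp3⟩ := hB
    obtain ⟨h1, h1r, h1n⟩ := okRoot_spec D r a₁ hk1
    obtain ⟨h2, h2r, h2n⟩ := okRoot_spec D r a₂ hk2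
    obtain ⟨h3, h3r, h3n⟩ := okRoot_spec D r a₃ hk3
    have h1n' : a₁ ≠ rn := by rw [hrn']; exact h1n
    have h1r' : a₁ ≠ D.negIdx.getD rn 0 := by rw [hnn]; exact h1r
    have h2n' : a₂ ≠ rn := by rw [hrn']; exact h2n
    have h2r' : a₂ ≠ D.negIdx.getD rn 0 := by rw [hnn]; exact h2r
    have h3n' : a₃ ≠ rn := by rw [hrn']; exact h3n
    have h3r' : a₃ ≠ D.negIdx.getD rn 0 := by rw [hnn]; exact h3r
    simp only [chkAddList, Bool.and_eq_true, List.isEmpty_iff] at hLchk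
    obtain ⟨⟨⟨_, hsng2⟩, hsng1⟩, hup3⟩ := hLchk
    obtain ⟨M', M'', hup1, hM⟩ := isSingle2_spec _ _ _ _ hsng2
    obtain ⟨N', hup2, hN⟩ := isSingle1_spec _ _ _ hsng1
    rw [Bool.and_eq_true, decide_eq_true_eq, decide_eq_true_eq] at hM
    rw [decide_eq_true_eq] at hN
    have hLc := chainEntries_chk D hA rn hrn a₃ _ (by rw [hdn3]; exact List.mem_singleton.mpr rfl)
    simp only [chkAddList, Bool.and_eq_true, List.isEmpty_iff] at hLc
    obtain ⟨⟨⟨_, hsng2'⟩, hsng1'⟩, _⟩ := hLc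
    obtain ⟨K', K'', hdn2, hK⟩ := isSingle2_spec _ _ _ _ hsng2'
    obtain ⟨J', hdn1, hJ⟩ := isSingle1_spec _ _ _ hsng1'
    rw [Bool.and_eq_true, decide_eq_true_eq, decide_eq_true_eq] at hK
    rw [decide_eq_true_eq] at hJ
    have e1 : u₁ = 1 ∨ u₁ = -1 := sgn_spec u₁ hs1
    have e2 : u₂ = 1 ∨ u₂ = -1 := sgn_spec u₂ hs2
    have e3 : u₃ = 1 ∨ u₃ = -1 := sgn_spec u₃ hs3
    have hM'v : M' = 2 * u₁ * u₂ := by
      rcases e1 with rfl | rfl <;> rcases e2 with rfl | rfl <;> omega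
    have hM''v : M'' = 3 * u₁ * u₃ := by
      rcases e1 with rfl | rfl <;> rcases e3 with rfl | rfl <;> omega
    have hN'v : N' = 3 * u₂ * u₃ := by
      rcases e2 with rfl | rfl <;> rcases e3 with rfl | rfl <;> omega
    have hK'v : K' = 2 * u₁ * u₂ := by
      rcases e1 with rfl | rfl <;> rcases e2 with rfl | rfl <;> rcases e3 with rfl | rfl <;> omega
    have hK''v : K'' = 3 * u₂ := by
      rcases e1 with rfl | rfl <;> rcases e2 with rfl | rfl <;> rcases e3 with rfl | rfl <;> omega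
    have hJ'v : J' = 3 * u₁ := by
      rcases e1 with rfl | rfl <;> rcases e2 with rfl | rfl <;> rcases e3 with rfl | rfl <;> omega
    subst hM'v hM''v hN'v hK'v hK''v hJ'v
    have key := string3n (Xl D r) (Xl D rn) (Ev D a₀) (Ev D a₁) (Ev D a₂) (Ev D a₃)
      ((u₁ : ℤ) : F) ((u₂ : ℤ) : F) ((u₃ : ℤ) : F)
      (sgn_specF u₁ hs1) (sgn_specF u₂ hs2) (sgn_specF u₃ hs3)
      (fun t => Xl_Ev_col3 D r a₀ hr h0 h0r h0n a₁ a₂ a₃ u₁ u₂ u₃ hup t)
      (fun t => by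
        have := Xl_Ev_col2 (F := F) D r a₁ hr h1 h1r h1n a₂ a₃ (2 * u₁ * u₂) (3 * u₁ * u₃) hup1 t
        push_cast at this
        exact this)
      (fun t => by
        have := Xl_Ev_col1 (F := F) D r a₂ hr h2 h2r h2n a₃ (3 * u₂ * u₃) hup2 t
        push_cast at this
        exact this)
      (fun t => Xl_Ev_col0 D r a₃ hr h3 h3r h3n hup3 t)
      (fun u => by
        have := Xl_Ev_col3 (F := F) D rn a₃ hrn h3 h3n' h3r' a₂ a₁ a₀ (u₃ * u₂) (u₃ * u₁) u₃ hdn3 u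
        push_cast at this
        exact this)
      (fun u => by
        have := Xl_Ev_col2 (F := F) D rn a₂ hrn h2 h2n' h2r' a₁ a₀ (2 * u₁ * u₂) (3 * u₂) hdn2 u
        push_cast at this
        exact this)
      (fun u => by
        have := Xl_Ev_col1 (F := F) D rn a₁ hrn h1 h1n' h1r' a₀ (3 * u₁) hdn1 u
        push_cast at this
        exact this)
      (fun u => Xl_Ev_col0 D rn a₀ hrn h0 h0n' h0r' hdn u) t ht
    refine ⟨⟨a₃, _, h3, key.1⟩, ?_⟩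
    intro q hq
    simp only [List.mem_cons, List.not_mem_nil, or_false] at hq
    rcases hq with rfl | rfl | rfl
    · exact ⟨a₂, _, h2, key.2.1⟩
    · exact ⟨a₁, _, h1, key.2.2.1⟩
    · exact ⟨a₀, _, h0, key.2.2.2⟩
  · simp [chkBottom] at hB


theorem nOp_Ev (hA : chkAdd D = true) (hSo : chkSorted D = true) (hS : chkS D = true)
    (hY : chkY D = true) (hN : chkNg D = true)
    (r : ℕ) (hr : r < D.nroots) (t : F) (ht : t ≠ 0) (s : ℕ) (hs : s < D.nroots) (hsr : s ≠ r)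
    (hsn : s ≠ D.neg r) :
    ∃ (s' : ℕ) (c : F), s' < D.nroots ∧
      nOp (Xl D r) (Xl D (D.neg r)) t (Ev D s) = c • (Ev D s' : D.Idx → F) := by
  obtain ⟨hrn, hne, hnn, _⟩ := chkNg_spec D hN r hr
  have hsr' : s ≠ D.negIdx.getD (D.neg r) 0 := by
    have : D.negIdx.getD (D.neg r) 0 = r := hnn
    rw [this]
    exact hsr
  by_cases hdn : chainEntries D (D.neg r) s = []
  · by_cases hup : chainEntries D r s = []
    · refine ⟨s, 1, hs, ?_⟩
      rw [one_smul, nOp_apply, Xl_Ev_col0 D r s hr hs hsr hsn hup t,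
        Xl_Ev_col0 D (D.neg r) s hrn hs hsn hsr' hdn, Xl_Ev_col0 D r s hr hs hsr hsn hup t]
    · obtain ⟨L, hL⟩ := List.exists_mem_of_ne_nil _ hup
      obtain ⟨e, he, hes, heL⟩ := mem_of_chainEntries D r s L hL
      have hup' : chainEntries D r s = [L] := by
        rw [← hes, ← heL]
        exact chainEntries_of_mem D hSo r hr e he
      obtain ⟨hok, hbot⟩ := chkS_spec D hS r hr e he
      rw [hes] at hok hbot
      rw [heL] at hbot
      exact (bottom_spec_n D hA r hr (D.neg r) hrn rfl hnn s L hok hup' hdn (hbot hdn) t ht).1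
  · obtain ⟨L, hL⟩ := List.exists_mem_of_ne_nil _ hdn
    obtain ⟨e, he, hes, heL⟩ := mem_of_chainEntries D (D.neg r) s L hL
    obtain ⟨b, Lb, hb, hLb, q, hq, hqs⟩ := chkY_spec D hY (D.neg r) hrn e he
    rw [hnn] at hLb
    have hbdn : chainEntries D (D.neg r) b.1 = [] :=
      chkAddList_last D (D.neg r) e.2.toList ((chkAdd_spec D hA (D.neg r) hrn).2 e he) b hb
    obtain ⟨e', he', hes', heL'⟩ := mem_of_chainEntries D r b.1 Lb
      (by rw [hLb]; exact List.mem_singleton.mpr rfl)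
    obtain ⟨hok, hbot⟩ := chkS_spec D hS r hr e' he'
    rw [hes'] at hok hbot
    rw [heL'] at hbot
    have h1 := (bottom_spec_n D hA r hr (D.neg r) hrn rfl hnn b.1 Lb hok hLb hbdn (hbot hbdn) t ht).2 q hq
    rw [hqs, hes] at h1
    exact h1

theorem nOp_adj (hA : chkAdd D = true) (hN : chkNg D = true)
    (r : ℕ) (hr : r < D.nroots) (t : F) (ht : t ≠ 0) :
    (∃ c : F, nOp (Xl D r) (Xl D (D.neg r)) t (Ev D r) = c • (Ev D (D.neg r) : D.Idx → F)) ∧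
    (∃ c : F, nOp (Xl D r) (Xl D (D.neg r)) t (Ev D (D.neg r)) = c • (Ev D r : D.Idx → F)) ∧
    ∀ i : Fin D.rank, nOp (Xl D r) (Xl D (D.neg r)) t (Hv D i) =
      (Hv D i : D.Idx → F) - ((D.cartan i.val r : ℤ) : F) • Hr D r := by
  obtain ⟨hrn, hne, hnn, hcc⟩ := chkNg_spec D hN r hr
  have hpr := pairing_self D hA r hr
  have hprn := pairing_neg D hA hN r hr
  have hHr : (Hr D (D.neg r) : D.Idx → F) = - Hr D r := by
    unfold Hr
    rw [← Finset.sum_neg_distrib]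
    apply Finset.sum_congr rfl
    intro i _
    rw [(hcc i.val i.isLt).2]
    push_cast
    rw [neg_smul]
  have hXe : ∀ t : F, Xl D r t (Ev D r) = Ev D r := Xl_Ev_self D r hr
  have hXf : ∀ t : F, Xl D r t (Ev D (D.neg r)) = Ev D (D.neg r) + t • Hr D r - (t ^ 2) • Ev D r :=
    fun t => Xl_Ev_neg D r (D.neg r) hr hrn hne rfl t
  have hXh : ∀ t : F, Xl D r t (Hr D r) = Hr D r - (2 * t) • Ev D r := fun t => by
    rw [Xl_Hr D r r hr, hpr]
    norm_num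
  have hYf : ∀ u : F, Xl D (D.neg r) u (Ev D (D.neg r)) = Ev D (D.neg r) := Xl_Ev_self D _ hrn
  have hYe : ∀ u : F, Xl D (D.neg r) u (Ev D r) = Ev D r - u • Hr D r - (u ^ 2) • Ev D (D.neg r) :=
    fun u => by
      rw [Xl_Ev_neg D (D.neg r) r hrn hr hne.symm hnn.symm u, hHr, smul_neg, ← sub_eq_add_neg]
  have hYh : ∀ u : F, Xl D (D.neg r) u (Hr D r) = Hr D r + (2 * u) • Ev D (D.neg r) := fun u => by
    rw [Xl_Hr D (D.neg r) r hrn, hprn]
    push_cast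
    rw [neg_mul, neg_smul, sub_neg_eq_add]
  have hst := stringAdjn _ _ _ _ _ hXe hXf hXh hYf hYe hYh t ht
  refine ⟨⟨_, hst.1⟩, ⟨_, hst.2.1⟩, fun i => ?_⟩
  exact stringAdjGn _ _ _ _ _ (Hv D i) ((D.cartan i.val r : ℤ) : F) hXe hXf hXh hYf hYe hYh
    (fun t => Xl_Hv D r hr i t)
    (fun u => by
      rw [Xl_Hv D (D.neg r) hrn i u, (hcc i.val i.isLt).1]
      push_cast
      rw [neg_mul, neg_smul, sub_neg_eq_add]) t ht

theorem nMat_mulVec (r : ℕ) (t : F) (v : D.Idx → F) :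
    Matrix.mulVec (D.nMat F r t) v = nOp (Xl D r) (Xl D (D.neg r)) t v := by
  unfold ChevalleyDatum.nMat ChevalleyDatum.nWord ChevalleyDatum.wordMat
  simp only [List.map_cons, List.map_nil, List.prod_cons,
    List.prod_nil, mul_one, nOp_apply, Xl, Matrix.mulVecLin_apply, Matrix.mulVec_mulVec]

end nact

end Cfsg.Agent.Lib.Helper3
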