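import Mathlib
import Cfsg.Agent.Lib.Helper3.ChevRcS

set_option autoImplicit false

namespace Cfsg.Agent.Lib.Helper3

open Cfsg.Lie

def rfRE6_0 : ℕ := 68860739535078100914596739045472550060558126031925906698557184978812794185875324317535844633006154102049939227231216439978584304288106533539790046234022772551535750302269696
def rfEE6_0 : ℕ := 143055259877474304
set_option maxHeartbeats 0 in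
theorem rfF1E6_0 : chkF1 chevE6 (dig256 rfRE6_0) (sgnBit rfEE6_0) = true := by decide +kernel
set_option maxHeartbeats 0 in
theorem rfH2E6_0 : chkH2 chevE6 (dig256 rfRE6_0) 0 = true := by decide +kernel
set_option maxHeartbeats 0 in
theorem rfH1E6_0 : chkH1 chevE6 (dig256 rfRE6_0) 0 = true := by decide +kernel
set_option maxHeartbeats 0 in
theorem rfLkE6_0 : chkLinkF chevE6 (dig256 rfRE6_0) (sgnBit rfEE6_0) 0 = true := by decide +kernel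
def rfPE6_0_0 : List (List ℕ) := [[0, 1, 2, 3, 10, 11, 12, 13, 14, 15, 4, 5, 6, 7, 8, 9, 16, 17, 18, 19], [0, 1, 2, 3, 10, 11, 12, 13, 14, 15, 4, 5, 6, 7, 8, 9, 16, 17, 18, 19], [0, 1, 2, 3, 10, 11, 12, 13, 14, 15, 4, 5, 6, 7, 8, 9, 16, 17, 18, 19], [0, 1, 2, 3, 10, 11, 12, 13, 14, 15, 4, 5, 6, 7, 8, 9, 16, 17, 18, 19], [0, 1, 2, 3, 10, 11, 12, 13, 14, 15, 4, 5, 6, 7, 8, 9, 16, 17, 18, 19], [0, 1, 2, 4, 5, 6, 7, 10, 11, 16, 3, 8, 9, 12, 13, 14, 15, 17, 18, 19], [0, 1, 2, 4, 5, 6, 7, 10, 11, 16, 3, 8, 9, 12, 13, 14, 15, 17, 18, 19], [0, 1, 2, 4, 5, 6, 7, 10, 11, 16, 3, 8, 9, 12, 13, 14, 15, 17, 18, 19], [0, 1, 2, 4, 5, 6, 7, 10, 11, 16, 3, 8, 9, 12, 13, 14, 15, 17, 18, 19], [0, 1, 2, 4, 5, 6, 7, 10, 11, 16, 3, 8, 9, 12, 13, 14, 15, 17, 18, 19], [0, 1,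 2, 4, 5, 6, 7, 10, 11, 16, 3, 8, 9, 12, 13, 14, 15, 17, 18, 19], [0, 1, 2, 4, 5, 6, 7, 8, 9, 16, 3, 10, 11, 12, 13, 14, 15, 17, 18, 19], [0, 1, 2, 4, 5, 6, 7, 8, 9, 16, 3, 10, 11, 12, 13, 14, 15, 17, 18, 19], [0, 1, 2, 4, 5, 6, 7, 8, 9, 16, 3, 10, 11, 12, 13, 14, 15, 17, 18, 19], [0, 1, 2, 4, 5, 6, 7, 8, 9, 16, 3, 10, 11, 12, 13, 14, 15, 17, 18, 19], [0, 1, 2, 3, 4, 5, 6, 7, 8, 9, 10, 11, 12, 13, 14, 15, 16, 17, 18, 19], [0, 1, 2, 10, 3, 4, 5, 6, 11, 12, 7, 8, 13, 14, 15, 16, 9, 17, 18, 19], [0, 1, 2, 10, 3, 4, 5, 6, 11, 12, 7, 8, 13, 14, 15, 16, 9, 17, 18, 19], [0, 1, 2, 10, 3, 4, 5, 6, 11, 12, 7, 8, 13, 14, 15, 16, 9, 17, 18, 19], [0, 1, 2, 10, 3, 4, 5, 6, 11, 12, 7, 8, 13, 14, 15, 16, 9, 17, 18, 19], [0, 1, 2, 10, 3, 4, 5, 6, 11, 12, 7, 8, 13, 14,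 15, 16, 9, 17, 18, 19], [0, 1, 2, 10, 3, 4, 5, 6, 11, 12, 7, 8, 13, 14, 15, 16, 9, 17, 18, 19], [0, 4, 5, 6, 1, 2, 3, 7, 8, 9, 10, 11, 12, 16, 17, 18, 13, 14, 15, 19], [0, 4, 5, 6, 1, 2, 3, 7, 8, 9, 10, 11, 12, 16, 17, 18, 13, 14, 15, 19], [0, 4, 5, 6, 1, 2, 3, 7, 8, 9, 10, 11, 12, 16, 17, 18, 13, 14, 15, 19], [0, 4, 5, 6, 1, 2, 3, 7, 8, 9, 10, 11, 12, 16, 17, 18, 13, 14, 15, 19], [0, 1, 2, 10, 3, 4, 5, 6, 7, 8, 11, 12, 13, 14, 15, 16, 9, 17, 18, 19], [0, 1, 2, 10, 3, 4, 5, 6, 7, 8, 11, 12, 13, 14, 15, 16, 9, 17, 18, 19], [0, 1, 2, 10, 3, 4, 5, 6, 7, 8, 11, 12, 13, 14, 15, 16, 9, 17, 18, 19], [0, 1, 2, 10, 3, 4, 5, 6, 7, 8, 11, 12, 13, 14, 15, 16, 9, 17, 18, 19], [0, 4, 5, 7, 1, 2, 6, 3, 8, 9, 10, 11, 16, 13, 17, 18, 12, 14, 15, 19], [0, 4, 5, 7, 1,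 2, 6, 3, 8, 9, 10, 11, 16, 13, 17, 18, 12, 14, 15, 19], [0, 4, 5, 7, 1, 2, 6, 3, 8, 9, 10, 11, 16, 13, 17, 18, 12, 14, 15, 19], [0, 4, 5, 7, 1, 2, 6, 3, 8, 9, 10, 11, 16, 13, 17, 18, 12, 14, 15, 19], [0, 4, 5, 7, 1, 2, 6, 3, 8, 9, 10, 11, 16, 13, 17, 18, 12, 14, 15, 19], [0, 4, 5, 7, 1, 2, 6, 3, 8, 9, 10, 11, 16, 13, 17, 18, 12, 14, 15, 19], [0, 4, 5, 7, 1, 2, 6, 3, 8, 9, 10, 11, 16, 13, 17, 18, 12, 14, 15, 19], [0, 4, 5, 7, 1, 2, 6, 3, 8, 9, 10, 11, 16, 13, 17, 18, 12, 14, 15, 19], [0, 4, 5, 7, 1, 2, 6, 3, 8, 9, 10, 11, 16, 13, 17, 18, 12, 14, 15, 19], [0, 4, 5, 7, 1, 2, 6, 3, 8, 9, 10, 11, 16, 13, 17, 18, 12, 14, 15, 19], [0, 4, 5, 7, 1, 2, 6, 3, 8, 9, 10, 11, 16, 13, 17, 18, 12, 14, 15, 19], [0, 4, 5, 7, 1, 2, 6, 3, 8, 9, 10, 11, 16, 13, 17, 18, 12,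 14, 15, 19], [0, 1, 2, 10, 3, 4, 5, 6, 7, 8, 11, 12, 13, 14, 15, 16, 9, 17, 18, 19], [0, 1, 2, 10, 3, 4, 5, 6, 7, 8, 11, 12, 13, 14, 15, 16, 9, 17, 18, 19], [0, 1, 2, 10, 3, 4, 5, 6, 7, 8, 11, 12, 13, 14, 15, 16, 9, 17, 18, 19], [0, 1, 2, 10, 3, 4, 5, 6, 7, 8, 11, 12, 13, 14, 15, 16, 9, 17, 18, 19], [0, 4, 5, 6, 1, 2, 3, 7, 8, 9, 10, 11, 12, 16, 17, 18, 13, 14, 15, 19], [0, 4, 5, 6, 1, 2, 3, 7, 8, 9, 10, 11, 12, 16, 17, 18, 13, 14, 15, 19], [0, 4, 5, 6, 1, 2, 3, 7, 8, 9, 10, 11, 12, 16, 17, 18, 13, 14, 15, 19], [0, 4, 5, 6, 1, 2, 3, 7, 8, 9, 10, 11, 12, 16, 17, 18, 13, 14, 15, 19], [0, 1, 2, 10, 3, 4, 5, 6, 11, 12, 7, 8, 13, 14, 15, 16, 9, 17, 18, 19], [0, 1, 2, 10, 3, 4, 5, 6, 11, 12, 7, 8, 13, 14, 15, 16, 9, 17, 18, 19], [0, 1, 2, 10, 3, 4, 5, 6, 11,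 12, 7, 8, 13, 14, 15, 16, 9, 17, 18, 19], [0, 1, 2, 10, 3, 4, 5, 6, 11, 12, 7, 8, 13, 14, 15, 16, 9, 17, 18, 19], [0, 1, 2, 10, 3, 4, 5, 6, 11, 12, 7, 8, 13, 14, 15, 16, 9, 17, 18, 19], [0, 1, 2, 10, 3, 4, 5, 6, 11, 12, 7, 8, 13, 14, 15, 16, 9, 17, 18, 19], [0, 1, 2, 3, 4, 5, 6, 7, 8, 9, 10, 11, 12, 13, 14, 15, 16, 17, 18, 19], [0, 1, 2, 4, 5, 6, 7, 8, 9, 16, 3, 10, 11, 12, 13, 14, 15, 17, 18, 19], [0, 1, 2, 4, 5, 6, 7, 8, 9, 16, 3, 10, 11, 12, 13, 14, 15, 17, 18, 19], [0, 1, 2, 4, 5, 6, 7, 8, 9, 16, 3, 10, 11, 12, 13, 14, 15, 17, 18, 19], [0, 1, 2, 4, 5, 6, 7, 8, 9, 16, 3, 10, 11, 12, 13, 14, 15, 17, 18, 19], [0, 1, 2, 4, 5, 6, 7, 10, 11, 16, 3, 8, 9, 12, 13, 14, 15, 17, 18, 19], [0, 1, 2, 4, 5, 6, 7, 10, 11, 16, 3, 8, 9, 12, 13, 14, 15, 17, 18, 19],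 [0, 1, 2, 4, 5, 6, 7, 10, 11, 16, 3, 8, 9, 12, 13, 14, 15, 17, 18, 19], [0, 1, 2, 4, 5, 6, 7, 10, 11, 16, 3, 8, 9, 12, 13, 14, 15, 17, 18, 19], [0, 1, 2, 4, 5, 6, 7, 10, 11, 16, 3, 8, 9, 12, 13, 14, 15, 17, 18, 19], [0, 1, 2, 4, 5, 6, 7, 10, 11, 16, 3, 8, 9, 12, 13, 14, 15, 17, 18, 19], [0, 1, 2, 3, 10, 11, 12, 13, 14, 15, 4, 5, 6, 7, 8, 9, 16, 17, 18, 19], [0, 1, 2, 3, 10, 11, 12, 13, 14, 15, 4, 5, 6, 7, 8, 9, 16, 17, 18, 19], [0, 1, 2, 3, 10, 11, 12, 13, 14, 15, 4, 5, 6, 7, 8, 9, 16, 17, 18, 19], [0, 1, 2, 3, 10, 11, 12, 13, 14, 15, 4, 5, 6, 7, 8, 9, 16, 17, 18, 19], [0, 1, 2, 3, 10, 11, 12, 13, 14, 15, 4, 5, 6, 7, 8, 9, 16, 17, 18, 19]]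
theorem rfPlE6_0_0 : rfPE6_0_0.length = 72 := by decide +kernel
set_option maxHeartbeats 0 in
theorem rfRwE6_0_0 : rowsF chevE6 (dig256 rfRE6_0) (sgnBit rfEE6_0) 0 rfPE6_0_0 = true := by decide +kernel
theorem rfRowsE6_0 : ∀ r < chevE6.nroots, RowOK chevE6 (fnG chevE6.nroots (dig256 rfRE6_0) (sgnBit rfEE6_0)) r := by
  intro r hr
  have hr' : r < 72 := hr
  exact rowsF_spec _ _ _ _ 0 rfRwE6_0_0 r (by omega) (by rw [rfPlE6_0_0]; omega) hr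
theorem rfOKE6_0 : ReflOK chevE6 0 (dig256 rfRE6_0) (sgnBit rfEE6_0) :=
  ⟨rfF1E6_0, rfRowsE6_0, rfH2E6_0, rfH1E6_0, rfLkE6_0⟩

def rfRE6_1 : ℕ := 67898379116758311409174261616388753868225998791303625563428882050626415270252589797741478371984307561973422256644613195820774439032392954730690482532434882508821640184463361
def rfEE6_1 : ℕ := 2377332098023254656769
set_option maxHeartbeats 0 in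
theorem rfF1E6_1 : chkF1 chevE6 (dig256 rfRE6_1) (sgnBit rfEE6_1) = true := by decide +kernel
set_option maxHeartbeats 0 in
theorem rfH2E6_1 : chkH2 chevE6 (dig256 rfRE6_1) 1 = true := by decide +kernel
set_option maxHeartbeats 0 in
theorem rfH1E6_1 : chkH1 chevE6 (dig256 rfRE6_1) 1 = true := by decide +kernel
set_option maxHeartbeats 0 in
theorem rfLkE6_1 : chkLinkF chevE6 (dig256 rfRE6_1) (sgnBit rfEE6_1) 1 = true := by decide +kernel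
def rfPE6_1_0 : List (List ℕ) := [[0, 1, 2, 3, 4, 5, 6, 7, 8, 9, 10, 11, 12, 13, 14, 15, 16, 17, 18, 19], [0, 1, 2, 3, 4, 5, 6, 7, 8, 9, 10, 11, 12, 13, 14, 15, 16, 17, 18, 19], [1, 0, 2, 3, 4, 7, 8, 5, 6, 9, 10, 13, 14, 11, 12, 15, 16, 17, 19, 18], [1, 0, 2, 3, 4, 7, 8, 5, 6, 9, 10, 13, 14, 11, 12, 15, 16, 17, 19, 18], [1, 0, 2, 3, 4, 7, 8, 5, 6, 9, 10, 13, 14, 11, 12, 15, 16, 17, 19, 18], [1, 0, 2, 3, 4, 7, 8, 5, 6, 9, 10, 13, 14, 11, 12, 15, 16, 17, 19, 18], [1, 0, 2, 3, 4, 7, 8, 5, 6, 9, 10, 13, 14, 11, 12, 15, 16, 17, 19, 18], [1, 0, 2, 3, 4, 7, 8, 5, 6, 9, 10, 13, 14, 11, 12, 15, 16, 17, 19, 18], [0, 1, 2, 3, 4, 6, 7, 5, 8, 9, 10, 11, 14, 12, 13, 15, 16, 17, 18, 19], [0, 1, 2, 3, 4, 6, 7, 5, 8, 9, 10, 11, 14, 12, 13, 15, 16, 17, 18, 19], [0, 1,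 2, 3, 4, 6, 7, 5, 8, 9, 10, 11, 14, 12, 13, 15, 16, 17, 18, 19], [0, 1, 2, 3, 4, 7, 5, 6, 8, 9, 10, 11, 13, 14, 12, 15, 16, 17, 18, 19], [0, 1, 2, 3, 4, 7, 5, 6, 8, 9, 10, 11, 13, 14, 12, 15, 16, 17, 18, 19], [0, 1, 2, 3, 4, 7, 5, 6, 8, 9, 10, 11, 13, 14, 12, 15, 16, 17, 18, 19], [0, 1, 2, 6, 7, 8, 3, 4, 5, 9, 10, 14, 15, 16, 11, 12, 13, 17, 18, 19], [0, 1, 2, 6, 7, 8, 3, 4, 5, 9, 10, 14, 15, 16, 11, 12, 13, 17, 18, 19], [1, 0, 2, 3, 4, 5, 10, 11, 12, 13, 6, 7, 8, 9, 14, 15, 16, 17, 19, 18], [1, 0, 2, 3, 4, 5, 10, 11, 12, 13, 6, 7, 8, 9, 14, 15, 16, 17, 19, 18], [1, 0, 2, 3, 4, 5, 10, 11, 12, 13, 6, 7, 8, 9, 14, 15, 16, 17, 19, 18], [0, 1, 2, 3, 4, 5, 7, 8, 10, 13, 6, 9, 11, 12, 14, 15, 16, 17, 18, 19], [0, 1, 2, 3, 4, 5, 7, 8, 10, 13, 6, 9, 11, 12,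 14, 15, 16, 17, 18, 19], [0, 1, 2, 3, 4, 5, 7, 8, 10, 13, 6, 9, 11, 12, 14, 15, 16, 17, 18, 19], [0, 1, 2, 3, 4, 5, 7, 8, 9, 13, 6, 10, 11, 12, 14, 15, 16, 17, 18, 19], [0, 1, 2, 3, 4, 5, 7, 8, 9, 13, 6, 10, 11, 12, 14, 15, 16, 17, 18, 19], [0, 1, 2, 3, 4, 5, 7, 8, 9, 13, 6, 10, 11, 12, 14, 15, 16, 17, 18, 19], [0, 1, 2, 3, 4, 5, 6, 7, 8, 9, 10, 11, 12, 13, 14, 15, 16, 17, 18, 19], [0, 1, 2, 3, 4, 5, 10, 6, 7, 11, 8, 12, 13, 9, 14, 15, 16, 17, 18, 19], [0, 1, 2, 3, 4, 5, 10, 6, 7, 11, 8, 12, 13, 9, 14, 15, 16, 17, 18, 19], [0, 1, 2, 3, 4, 5, 10, 6, 7, 11, 8, 12, 13, 9, 14, 15, 16, 17, 18, 19], [0, 1, 2, 3, 7, 8, 9, 4, 5, 6, 13, 14, 15, 10, 11, 12, 16, 17, 18, 19], [0, 1, 2, 3, 4, 5, 10, 6, 7, 8, 11, 12, 13, 9, 14, 15, 16, 17, 18, 19], [0, 1, 2, 3, 4,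 5, 10, 6, 7, 8, 11, 12, 13, 9, 14, 15, 16, 17, 18, 19], [0, 1, 2, 3, 4, 5, 10, 6, 7, 8, 11, 12, 13, 9, 14, 15, 16, 17, 18, 19], [0, 1, 3, 2, 4, 7, 8, 5, 6, 9, 10, 13, 14, 11, 12, 15, 17, 16, 18, 19], [0, 1, 3, 2, 4, 7, 8, 5, 6, 9, 10, 13, 14, 11, 12, 15, 17, 16, 18, 19], [0, 1, 3, 2, 4, 7, 8, 5, 6, 9, 10, 13, 14, 11, 12, 15, 17, 16, 18, 19], [0, 1, 3, 2, 4, 7, 8, 5, 6, 9, 10, 13, 14, 11, 12, 15, 17, 16, 18, 19], [0, 1, 3, 2, 4, 7, 8, 5, 6, 9, 10, 13, 14, 11, 12, 15, 17, 16, 18, 19], [0, 1, 3, 2, 4, 7, 8, 5, 6, 9, 10, 13, 14, 11, 12, 15, 17, 16, 18, 19], [0, 1, 2, 3, 4, 5, 10, 6, 7, 8, 11, 12, 13, 9, 14, 15, 16, 17, 18, 19], [0, 1, 2, 3, 4, 5, 10, 6, 7, 8, 11, 12, 13, 9, 14, 15, 16, 17, 18, 19], [0, 1, 2, 3, 4, 5, 10, 6, 7, 8, 11, 12, 13, 9, 14, 15, 16,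 17, 18, 19], [0, 1, 2, 3, 7, 8, 9, 4, 5, 6, 13, 14, 15, 10, 11, 12, 16, 17, 18, 19], [0, 1, 2, 3, 4, 5, 10, 6, 7, 11, 8, 12, 13, 9, 14, 15, 16, 17, 18, 19], [0, 1, 2, 3, 4, 5, 10, 6, 7, 11, 8, 12, 13, 9, 14, 15, 16, 17, 18, 19], [0, 1, 2, 3, 4, 5, 10, 6, 7, 11, 8, 12, 13, 9, 14, 15, 16, 17, 18, 19], [0, 1, 2, 3, 4, 5, 6, 7, 8, 9, 10, 11, 12, 13, 14, 15, 16, 17, 18, 19], [0, 1, 2, 3, 4, 5, 7, 8, 9, 13, 6, 10, 11, 12, 14, 15, 16, 17, 18, 19], [0, 1, 2, 3, 4, 5, 7, 8, 9, 13, 6, 10, 11, 12, 14, 15, 16, 17, 18, 19], [0, 1, 2, 3, 4, 5, 7, 8, 9, 13, 6, 10, 11, 12, 14, 15, 16, 17, 18, 19], [0, 1, 2, 3, 4, 5, 7, 8, 10, 13, 6, 9, 11, 12, 14, 15, 16, 17, 18, 19], [0, 1, 2, 3, 4, 5, 7, 8, 10, 13, 6, 9, 11, 12, 14, 15, 16, 17, 18, 19], [0, 1, 2, 3, 4, 5, 7, 8, 10,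 13, 6, 9, 11, 12, 14, 15, 16, 17, 18, 19], [1, 0, 2, 3, 4, 5, 10, 11, 12, 13, 6, 7, 8, 9, 14, 15, 16, 17, 19, 18], [1, 0, 2, 3, 4, 5, 10, 11, 12, 13, 6, 7, 8, 9, 14, 15, 16, 17, 19, 18], [1, 0, 2, 3, 4, 5, 10, 11, 12, 13, 6, 7, 8, 9, 14, 15, 16, 17, 19, 18], [0, 1, 2, 6, 7, 8, 3, 4, 5, 9, 10, 14, 15, 16, 11, 12, 13, 17, 18, 19], [0, 1, 2, 6, 7, 8, 3, 4, 5, 9, 10, 14, 15, 16, 11, 12, 13, 17, 18, 19], [0, 1, 2, 3, 4, 7, 5, 6, 8, 9, 10, 11, 13, 14, 12, 15, 16, 17, 18, 19], [0, 1, 2, 3, 4, 7, 5, 6, 8, 9, 10, 11, 13, 14, 12, 15, 16, 17, 18, 19], [0, 1, 2, 3, 4, 7, 5, 6, 8, 9, 10, 11, 13, 14, 12, 15, 16, 17, 18, 19], [0, 1, 2, 3, 4, 6, 7, 5, 8, 9, 10, 11, 14, 12, 13, 15, 16, 17, 18, 19], [0, 1, 2, 3, 4, 6, 7, 5, 8, 9, 10, 11, 14, 12, 13, 15, 16, 17, 18, 19],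 [0, 1, 2, 3, 4, 6, 7, 5, 8, 9, 10, 11, 14, 12, 13, 15, 16, 17, 18, 19], [1, 0, 2, 3, 4, 7, 8, 5, 6, 9, 10, 13, 14, 11, 12, 15, 16, 17, 19, 18], [1, 0, 2, 3, 4, 7, 8, 5, 6, 9, 10, 13, 14, 11, 12, 15, 16, 17, 19, 18], [1, 0, 2, 3, 4, 7, 8, 5, 6, 9, 10, 13, 14, 11, 12, 15, 16, 17, 19, 18], [1, 0, 2, 3, 4, 7, 8, 5, 6, 9, 10, 13, 14, 11, 12, 15, 16, 17, 19, 18], [1, 0, 2, 3, 4, 7, 8, 5, 6, 9, 10, 13, 14, 11, 12, 15, 16, 17, 19, 18], [1, 0, 2, 3, 4, 7, 8, 5, 6, 9, 10, 13, 14, 11, 12, 15, 16, 17, 19, 18], [0, 1, 2, 3, 4, 5, 6, 7, 8, 9, 10, 11, 12, 13, 14, 15, 16, 17, 18, 19], [0, 1, 2, 3, 4, 5, 6, 7, 8, 9, 10, 11, 12, 13, 14, 15, 16, 17, 18, 19]]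
theorem rfPlE6_1_0 : rfPE6_1_0.length = 72 := by decide +kernel
set_option maxHeartbeats 0 in
theorem rfRwE6_1_0 : rowsF chevE6 (dig256 rfRE6_1) (sgnBit rfEE6_1) 0 rfPE6_1_0 = true := by decide +kernel
theorem rfRowsE6_1 : ∀ r < chevE6.nroots, RowOK chevE6 (fnG chevE6.nroots (dig256 rfRE6_1) (sgnBit rfEE6_1)) r := by
  intro r hr
  have hr' : r < 72 := hr
  exact rowsF_spec _ _ _ _ 0 rfRwE6_1_0 r (by omega) (by rw [rfPlE6_1_0]; omega) hr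
theorem rfOKE6_1 : ReflOK chevE6 1 (dig256 rfRE6_1) (sgnBit rfEE6_1) :=
  ⟨rfF1E6_1, rfRowsE6_1, rfH2E6_1, rfH1E6_1, rfLkE6_1⟩

def rfRE6_2 : ℕ := 68860695135535158216797058934368584078938789528211777354868258615236502524939434476014300653026239562496047166733737140692285179851664431971808751874688785261135318011412736
def rfEE6_2 : ℕ := 1033169672869552603164
set_option maxHeartbeats 0 in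
theorem rfF1E6_2 : chkF1 chevE6 (dig256 rfRE6_2) (sgnBit rfEE6_2) = true := by decide +kernel
set_option maxHeartbeats 0 in
theorem rfH2E6_2 : chkH2 chevE6 (dig256 rfRE6_2) 2 = true := by decide +kernel
set_option maxHeartbeats 0 in
theorem rfH1E6_2 : chkH1 chevE6 (dig256 rfRE6_2) 2 = true := by decide +kernel
set_option maxHeartbeats 0 in
theorem rfLkE6_2 : chkLinkF chevE6 (dig256 rfRE6_2) (sgnBit rfEE6_2) 2 = true := by decide +kernel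
def rfPE6_2_0 : List (List ℕ) := [[0, 4, 5, 6, 1, 2, 3, 7, 8, 9, 10, 11, 12, 16, 17, 18, 13, 14, 15, 19], [0, 4, 5, 6, 1, 2, 3, 7, 8, 9, 10, 11, 12, 16, 17, 18, 13, 14, 15, 19], [0, 1, 3, 4, 2, 5, 6, 7, 8, 9, 10, 11, 12, 13, 14, 17, 15, 16, 18, 19], [0, 1, 3, 4, 2, 5, 6, 7, 8, 9, 10, 11, 12, 13, 14, 17, 15, 16, 18, 19], [0, 1, 3, 4, 2, 5, 6, 7, 8, 9, 10, 11, 12, 13, 14, 17, 15, 16, 18, 19], [0, 1, 4, 2, 3, 5, 6, 7, 8, 9, 10, 11, 12, 13, 14, 16, 17, 15, 18, 19], [0, 1, 4, 2, 3, 5, 6, 7, 8, 9, 10, 11, 12, 13, 14, 16, 17, 15, 18, 19], [0, 1, 4, 2, 3, 5, 6, 7, 8, 9, 10, 11, 12, 13, 14, 16, 17, 15, 18, 19], [0, 3, 4, 1, 2, 5, 6, 7, 9, 8, 11, 10, 12, 13, 14, 17, 18, 15, 16, 19], [0, 3, 4, 1, 2, 5, 6, 7, 9, 8, 11, 10, 12, 13, 14, 17, 18, 15, 16, 19], [0, 3,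 4, 1, 2, 5, 6, 7, 9, 8, 11, 10, 12, 13, 14, 17, 18, 15, 16, 19], [0, 3, 4, 1, 2, 5, 6, 7, 9, 8, 11, 10, 12, 13, 14, 17, 18, 15, 16, 19], [0, 3, 4, 1, 2, 5, 6, 7, 9, 8, 11, 10, 12, 13, 14, 17, 18, 15, 16, 19], [0, 3, 4, 1, 2, 5, 6, 7, 9, 8, 11, 10, 12, 13, 14, 17, 18, 15, 16, 19], [0, 1, 2, 3, 4, 5, 6, 7, 8, 9, 10, 11, 12, 13, 14, 15, 16, 17, 18, 19], [0, 1, 2, 3, 4, 5, 6, 7, 8, 9, 10, 11, 12, 13, 14, 15, 16, 17, 18, 19], [0, 1, 3, 2, 4, 5, 8, 9, 6, 7, 12, 13, 10, 11, 14, 15, 17, 16, 18, 19], [0, 1, 3, 2, 4, 5, 8, 9, 6, 7, 12, 13, 10, 11, 14, 15, 17, 16, 18, 19], [0, 1, 3, 2, 4, 5, 8, 9, 6, 7, 12, 13, 10, 11, 14, 15, 17, 16, 18, 19], [0, 1, 2, 3, 4, 5, 7, 8, 6, 9, 10, 13, 11, 12, 14, 15, 16, 17, 18, 19], [0, 1, 2, 3, 4, 5, 7, 8, 6, 9, 10, 13, 11, 12,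 14, 15, 16, 17, 18, 19], [0, 1, 2, 3, 4, 5, 7, 8, 6, 9, 10, 13, 11, 12, 14, 15, 16, 17, 18, 19], [0, 1, 2, 3, 4, 5, 8, 6, 7, 9, 10, 12, 13, 11, 14, 15, 16, 17, 18, 19], [0, 1, 2, 3, 4, 5, 8, 6, 7, 9, 10, 12, 13, 11, 14, 15, 16, 17, 18, 19], [0, 1, 2, 3, 4, 5, 8, 6, 7, 9, 10, 12, 13, 11, 14, 15, 16, 17, 18, 19], [0, 1, 2, 3, 7, 8, 9, 4, 5, 6, 13, 14, 15, 10, 11, 12, 16, 17, 18, 19], [0, 1, 2, 3, 4, 5, 6, 8, 9, 12, 7, 10, 11, 13, 14, 15, 16, 17, 18, 19], [0, 1, 2, 3, 4, 5, 6, 8, 9, 12, 7, 10, 11, 13, 14, 15, 16, 17, 18, 19], [0, 1, 2, 3, 4, 5, 6, 8, 9, 12, 7, 10, 11, 13, 14, 15, 16, 17, 18, 19], [0, 1, 2, 3, 4, 5, 6, 7, 8, 9, 10, 11, 12, 13, 14, 15, 16, 17, 18, 19], [0, 1, 2, 3, 4, 5, 6, 10, 7, 8, 11, 12, 9, 13, 14, 15, 16, 17, 18, 19], [0, 1, 2, 3, 4,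 5, 6, 10, 7, 8, 11, 12, 9, 13, 14, 15, 16, 17, 18, 19], [0, 1, 2, 3, 4, 5, 6, 10, 7, 8, 11, 12, 9, 13, 14, 15, 16, 17, 18, 19], [1, 0, 2, 3, 4, 6, 5, 8, 7, 9, 10, 12, 11, 14, 13, 15, 16, 17, 19, 18], [1, 0, 2, 3, 4, 6, 5, 8, 7, 9, 10, 12, 11, 14, 13, 15, 16, 17, 19, 18], [1, 0, 2, 3, 4, 6, 5, 8, 7, 9, 10, 12, 11, 14, 13, 15, 16, 17, 19, 18], [1, 0, 2, 3, 4, 6, 5, 8, 7, 9, 10, 12, 11, 14, 13, 15, 16, 17, 19, 18], [1, 0, 2, 3, 4, 6, 5, 8, 7, 9, 10, 12, 11, 14, 13, 15, 16, 17, 19, 18], [1, 0, 2, 3, 4, 6, 5, 8, 7, 9, 10, 12, 11, 14, 13, 15, 16, 17, 19, 18], [0, 1, 2, 3, 4, 5, 6, 10, 7, 8, 11, 12, 9, 13, 14, 15, 16, 17, 18, 19], [0, 1, 2, 3, 4, 5, 6, 10, 7, 8, 11, 12, 9, 13, 14, 15, 16, 17, 18, 19], [0, 1, 2, 3, 4, 5, 6, 10, 7, 8, 11, 12, 9, 13, 14, 15, 16,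 17, 18, 19], [0, 1, 2, 3, 4, 5, 6, 7, 8, 9, 10, 11, 12, 13, 14, 15, 16, 17, 18, 19], [0, 1, 2, 3, 4, 5, 6, 8, 9, 12, 7, 10, 11, 13, 14, 15, 16, 17, 18, 19], [0, 1, 2, 3, 4, 5, 6, 8, 9, 12, 7, 10, 11, 13, 14, 15, 16, 17, 18, 19], [0, 1, 2, 3, 4, 5, 6, 8, 9, 12, 7, 10, 11, 13, 14, 15, 16, 17, 18, 19], [0, 1, 2, 3, 7, 8, 9, 4, 5, 6, 13, 14, 15, 10, 11, 12, 16, 17, 18, 19], [0, 1, 2, 3, 4, 5, 8, 6, 7, 9, 10, 12, 13, 11, 14, 15, 16, 17, 18, 19], [0, 1, 2, 3, 4, 5, 8, 6, 7, 9, 10, 12, 13, 11, 14, 15, 16, 17, 18, 19], [0, 1, 2, 3, 4, 5, 8, 6, 7, 9, 10, 12, 13, 11, 14, 15, 16, 17, 18, 19], [0, 1, 2, 3, 4, 5, 7, 8, 6, 9, 10, 13, 11, 12, 14, 15, 16, 17, 18, 19], [0, 1, 2, 3, 4, 5, 7, 8, 6, 9, 10, 13, 11, 12, 14, 15, 16, 17, 18, 19], [0, 1, 2, 3, 4, 5, 7, 8, 6,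 9, 10, 13, 11, 12, 14, 15, 16, 17, 18, 19], [0, 1, 3, 2, 4, 5, 8, 9, 6, 7, 12, 13, 10, 11, 14, 15, 17, 16, 18, 19], [0, 1, 3, 2, 4, 5, 8, 9, 6, 7, 12, 13, 10, 11, 14, 15, 17, 16, 18, 19], [0, 1, 3, 2, 4, 5, 8, 9, 6, 7, 12, 13, 10, 11, 14, 15, 17, 16, 18, 19], [0, 1, 2, 3, 4, 5, 6, 7, 8, 9, 10, 11, 12, 13, 14, 15, 16, 17, 18, 19], [0, 1, 2, 3, 4, 5, 6, 7, 8, 9, 10, 11, 12, 13, 14, 15, 16, 17, 18, 19], [0, 3, 4, 1, 2, 5, 6, 7, 9, 8, 11, 10, 12, 13, 14, 17, 18, 15, 16, 19], [0, 3, 4, 1, 2, 5, 6, 7, 9, 8, 11, 10, 12, 13, 14, 17, 18, 15, 16, 19], [0, 3, 4, 1, 2, 5, 6, 7, 9, 8, 11, 10, 12, 13, 14, 17, 18, 15, 16, 19], [0, 3, 4, 1, 2, 5, 6, 7, 9, 8, 11, 10, 12, 13, 14, 17, 18, 15, 16, 19], [0, 3, 4, 1, 2, 5, 6, 7, 9, 8, 11, 10, 12, 13, 14, 17, 18, 15, 16, 19],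 [0, 3, 4, 1, 2, 5, 6, 7, 9, 8, 11, 10, 12, 13, 14, 17, 18, 15, 16, 19], [0, 1, 4, 2, 3, 5, 6, 7, 8, 9, 10, 11, 12, 13, 14, 16, 17, 15, 18, 19], [0, 1, 4, 2, 3, 5, 6, 7, 8, 9, 10, 11, 12, 13, 14, 16, 17, 15, 18, 19], [0, 1, 4, 2, 3, 5, 6, 7, 8, 9, 10, 11, 12, 13, 14, 16, 17, 15, 18, 19], [0, 1, 3, 4, 2, 5, 6, 7, 8, 9, 10, 11, 12, 13, 14, 17, 15, 16, 18, 19], [0, 1, 3, 4, 2, 5, 6, 7, 8, 9, 10, 11, 12, 13, 14, 17, 15, 16, 18, 19], [0, 1, 3, 4, 2, 5, 6, 7, 8, 9, 10, 11, 12, 13, 14, 17, 15, 16, 18, 19], [0, 4, 5, 6, 1, 2, 3, 7, 8, 9, 10, 11, 12, 16, 17, 18, 13, 14, 15, 19], [0, 4, 5, 6, 1, 2, 3, 7, 8, 9, 10, 11, 12, 16, 17, 18, 13, 14, 15, 19]]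
theorem rfPlE6_2_0 : rfPE6_2_0.length = 72 := by decide +kernel
set_option maxHeartbeats 0 in
theorem rfRwE6_2_0 : rowsF chevE6 (dig256 rfRE6_2) (sgnBit rfEE6_2) 0 rfPE6_2_0 = true := by decide +kernel
theorem rfRowsE6_2 : ∀ r < chevE6.nroots, RowOK chevE6 (fnG chevE6.nroots (dig256 rfRE6_2) (sgnBit rfEE6_2)) r := by
  intro r hr
  have hr' : r < 72 := hr
  exact rowsF_spec _ _ _ _ 0 rfRwE6_2_0 r (by omega) (by rw [rfPlE6_2_0]; omega) hr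
theorem rfOKE6_2 : ReflOK chevE6 2 (dig256 rfRE6_2) (sgnBit rfEE6_2) :=
  ⟨rfF1E6_2, rfRowsE6_2, rfH2E6_2, rfH1E6_2, rfLkE6_2⟩

end Cfsg.Agent.Lib.Helper3
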