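import Mathlib
import Cfsg.Agent.Lib.Helper3.ChevRc6a

set_option autoImplicit false

namespace Cfsg.Agent.Lib.Helper3

open Cfsg.Lie

def rfRE6_3 : ℕ := 68856980314703697980439144254334973515401028023823060939175680109056393390696631820261994746199928716884708600540244424635743493790229057459399689936210111163618278074548736
def rfEE6_3 : ℕ := 1236247255438460330178
set_option maxHeartbeats 0 in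
theorem rfF1E6_3 : chkF1 chevE6 (dig256 rfRE6_3) (sgnBit rfEE6_3) = true := by decide +kernel
set_option maxHeartbeats 0 in
theorem rfH2E6_3 : chkH2 chevE6 (dig256 rfRE6_3) 3 = true := by decide +kernel
set_option maxHeartbeats 0 in
theorem rfH1E6_3 : chkH1 chevE6 (dig256 rfRE6_3) 3 = true := by decide +kernel
set_option maxHeartbeats 0 in
theorem rfLkE6_3 : chkLinkF chevE6 (dig256 rfRE6_3) (sgnBit rfEE6_3) 3 = true := by decide +kernel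
def rfPE6_3_0 : List (List ℕ) := [[1, 0, 2, 3, 4, 7, 8, 5, 6, 9, 10, 13, 14, 11, 12, 15, 16, 17, 19, 18], [0, 1, 2, 3, 4, 5, 6, 7, 8, 9, 10, 11, 12, 13, 14, 15, 16, 17, 18, 19], [0, 1, 2, 3, 4, 5, 6, 7, 8, 9, 10, 11, 12, 13, 14, 15, 16, 17, 18, 19], [0, 2, 1, 3, 5, 4, 6, 7, 9, 8, 11, 10, 12, 13, 15, 14, 16, 18, 17, 19], [0, 2, 1, 3, 5, 4, 6, 7, 9, 8, 11, 10, 12, 13, 15, 14, 16, 18, 17, 19], [0, 2, 1, 5, 6, 3, 4, 7, 8, 9, 10, 11, 12, 15, 16, 13, 14, 18, 17, 19], [0, 1, 2, 3, 5, 4, 6, 7, 8, 9, 10, 11, 12, 13, 15, 14, 16, 17, 18, 19], [0, 1, 2, 3, 5, 4, 6, 7, 8, 9, 10, 11, 12, 13, 15, 14, 16, 17, 18, 19], [0, 1, 2, 3, 5, 4, 6, 7, 8, 9, 10, 11, 12, 13, 15, 14, 16, 17, 18, 19], [0, 1, 2, 3, 5, 4, 6, 7, 8, 9, 10, 11, 12, 13, 15, 14, 16, 17, 18, 19], [0, 1,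 2, 5, 6, 3, 4, 8, 7, 9, 10, 12, 11, 15, 16, 13, 14, 17, 18, 19], [1, 0, 2, 3, 5, 4, 6, 8, 7, 9, 10, 12, 11, 13, 15, 14, 16, 17, 19, 18], [1, 0, 2, 3, 5, 4, 6, 8, 7, 9, 10, 12, 11, 13, 15, 14, 16, 17, 19, 18], [0, 1, 2, 3, 4, 5, 6, 7, 8, 9, 10, 11, 12, 13, 14, 15, 16, 17, 18, 19], [0, 1, 2, 3, 4, 5, 6, 7, 8, 9, 10, 11, 12, 13, 14, 15, 16, 17, 18, 19], [0, 3, 4, 1, 2, 5, 6, 7, 9, 8, 11, 10, 12, 13, 14, 17, 18, 15, 16, 19], [0, 2, 1, 3, 6, 7, 4, 5, 8, 9, 10, 11, 14, 15, 12, 13, 16, 18, 17, 19], [0, 1, 2, 3, 4, 6, 5, 7, 8, 9, 10, 11, 12, 14, 13, 15, 16, 17, 18, 19], [0, 1, 2, 3, 4, 6, 5, 7, 8, 9, 10, 11, 12, 14, 13, 15, 16, 17, 18, 19], [0, 1, 2, 3, 4, 6, 5, 7, 8, 9, 10, 11, 12, 14, 13, 15, 16, 17, 18, 19], [0, 1, 2, 3, 4, 6, 5, 7, 8, 9, 10, 11, 12, 14,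 13, 15, 16, 17, 18, 19], [0, 1, 2, 3, 6, 7, 4, 5, 9, 8, 11, 10, 14, 15, 12, 13, 16, 17, 18, 19], [0, 1, 3, 2, 4, 6, 5, 7, 9, 8, 11, 10, 12, 14, 13, 15, 17, 16, 18, 19], [0, 1, 3, 2, 4, 6, 5, 7, 9, 8, 11, 10, 12, 14, 13, 15, 17, 16, 18, 19], [0, 1, 2, 3, 4, 5, 6, 7, 8, 9, 10, 11, 12, 13, 14, 15, 16, 17, 18, 19], [0, 1, 2, 3, 4, 5, 6, 7, 8, 9, 10, 11, 12, 13, 14, 15, 16, 17, 18, 19], [1, 0, 2, 3, 4, 6, 5, 7, 9, 8, 11, 10, 12, 14, 13, 15, 16, 17, 19, 18], [1, 0, 2, 3, 4, 6, 5, 7, 9, 8, 11, 10, 12, 14, 13, 15, 16, 17, 19, 18], [0, 1, 2, 3, 4, 5, 6, 7, 8, 9, 10, 11, 12, 13, 14, 15, 16, 17, 18, 19], [0, 1, 2, 3, 4, 5, 6, 7, 8, 9, 10, 11, 12, 13, 14, 15, 16, 17, 18, 19], [0, 1, 2, 3, 4, 5, 6, 7, 9, 11, 8, 10, 12, 13, 14, 15, 16, 17, 18, 19], [0, 1, 2, 3, 4,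 5, 6, 7, 9, 11, 8, 10, 12, 13, 14, 15, 16, 17, 18, 19], [0, 1, 2, 3, 4, 5, 6, 7, 8, 9, 10, 11, 12, 13, 14, 15, 16, 17, 18, 19], [0, 1, 2, 3, 4, 5, 6, 7, 10, 8, 11, 9, 12, 13, 14, 15, 16, 17, 18, 19], [0, 1, 2, 3, 4, 5, 6, 7, 10, 8, 11, 9, 12, 13, 14, 15, 16, 17, 18, 19], [0, 2, 1, 3, 5, 4, 6, 7, 9, 8, 11, 10, 12, 13, 15, 14, 16, 18, 17, 19], [0, 2, 1, 3, 5, 4, 6, 7, 9, 8, 11, 10, 12, 13, 15, 14, 16, 18, 17, 19], [0, 1, 2, 3, 4, 5, 6, 7, 10, 8, 11, 9, 12, 13, 14, 15, 16, 17, 18, 19], [0, 1, 2, 3, 4, 5, 6, 7, 10, 8, 11, 9, 12, 13, 14, 15, 16, 17, 18, 19], [0, 1, 2, 3, 4, 5, 6, 7, 8, 9, 10, 11, 12, 13, 14, 15, 16, 17, 18, 19], [0, 1, 2, 3, 4, 5, 6, 7, 9, 11, 8, 10, 12, 13, 14, 15, 16, 17, 18, 19], [0, 1, 2, 3, 4, 5, 6, 7, 9, 11, 8, 10, 12, 13, 14, 15, 16,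 17, 18, 19], [0, 1, 2, 3, 4, 5, 6, 7, 8, 9, 10, 11, 12, 13, 14, 15, 16, 17, 18, 19], [0, 1, 2, 3, 4, 5, 6, 7, 8, 9, 10, 11, 12, 13, 14, 15, 16, 17, 18, 19], [1, 0, 2, 3, 4, 6, 5, 7, 9, 8, 11, 10, 12, 14, 13, 15, 16, 17, 19, 18], [1, 0, 2, 3, 4, 6, 5, 7, 9, 8, 11, 10, 12, 14, 13, 15, 16, 17, 19, 18], [0, 1, 2, 3, 4, 5, 6, 7, 8, 9, 10, 11, 12, 13, 14, 15, 16, 17, 18, 19], [0, 1, 2, 3, 4, 5, 6, 7, 8, 9, 10, 11, 12, 13, 14, 15, 16, 17, 18, 19], [0, 1, 3, 2, 4, 6, 5, 7, 9, 8, 11, 10, 12, 14, 13, 15, 17, 16, 18, 19], [0, 1, 3, 2, 4, 6, 5, 7, 9, 8, 11, 10, 12, 14, 13, 15, 17, 16, 18, 19], [0, 1, 2, 3, 6, 7, 4, 5, 9, 8, 11, 10, 14, 15, 12, 13, 16, 17, 18, 19], [0, 1, 2, 3, 4, 6, 5, 7, 8, 9, 10, 11, 12, 14, 13, 15, 16, 17, 18, 19], [0, 1, 2, 3, 4, 6, 5, 7, 8,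 9, 10, 11, 12, 14, 13, 15, 16, 17, 18, 19], [0, 1, 2, 3, 4, 6, 5, 7, 8, 9, 10, 11, 12, 14, 13, 15, 16, 17, 18, 19], [0, 1, 2, 3, 4, 6, 5, 7, 8, 9, 10, 11, 12, 14, 13, 15, 16, 17, 18, 19], [0, 2, 1, 3, 6, 7, 4, 5, 8, 9, 10, 11, 14, 15, 12, 13, 16, 18, 17, 19], [0, 3, 4, 1, 2, 5, 6, 7, 9, 8, 11, 10, 12, 13, 14, 17, 18, 15, 16, 19], [0, 1, 2, 3, 4, 5, 6, 7, 8, 9, 10, 11, 12, 13, 14, 15, 16, 17, 18, 19], [0, 1, 2, 3, 4, 5, 6, 7, 8, 9, 10, 11, 12, 13, 14, 15, 16, 17, 18, 19], [1, 0, 2, 3, 5, 4, 6, 8, 7, 9, 10, 12, 11, 13, 15, 14, 16, 17, 19, 18], [1, 0, 2, 3, 5, 4, 6, 8, 7, 9, 10, 12, 11, 13, 15, 14, 16, 17, 19, 18], [0, 1, 2, 5, 6, 3, 4, 8, 7, 9, 10, 12, 11, 15, 16, 13, 14, 17, 18, 19], [0, 1, 2, 3, 5, 4, 6, 7, 8, 9, 10, 11, 12, 13, 15, 14, 16, 17, 18, 19],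 [0, 1, 2, 3, 5, 4, 6, 7, 8, 9, 10, 11, 12, 13, 15, 14, 16, 17, 18, 19], [0, 1, 2, 3, 5, 4, 6, 7, 8, 9, 10, 11, 12, 13, 15, 14, 16, 17, 18, 19], [0, 1, 2, 3, 5, 4, 6, 7, 8, 9, 10, 11, 12, 13, 15, 14, 16, 17, 18, 19], [0, 2, 1, 5, 6, 3, 4, 7, 8, 9, 10, 11, 12, 15, 16, 13, 14, 18, 17, 19], [0, 2, 1, 3, 5, 4, 6, 7, 9, 8, 11, 10, 12, 13, 15, 14, 16, 18, 17, 19], [0, 2, 1, 3, 5, 4, 6, 7, 9, 8, 11, 10, 12, 13, 15, 14, 16, 18, 17, 19], [0, 1, 2, 3, 4, 5, 6, 7, 8, 9, 10, 11, 12, 13, 14, 15, 16, 17, 18, 19], [0, 1, 2, 3, 4, 5, 6, 7, 8, 9, 10, 11, 12, 13, 14, 15, 16, 17, 18, 19], [1, 0, 2, 3, 4, 7, 8, 5, 6, 9, 10, 13, 14, 11, 12, 15, 16, 17, 19, 18]]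
theorem rfPlE6_3_0 : rfPE6_3_0.length = 72 := by decide +kernel
set_option maxHeartbeats 0 in
theorem rfRwE6_3_0 : rowsF chevE6 (dig256 rfRE6_3) (sgnBit rfEE6_3) 0 rfPE6_3_0 = true := by decide +kernel
theorem rfRowsE6_3 : ∀ r < chevE6.nroots, RowOK chevE6 (fnG chevE6.nroots (dig256 rfRE6_3) (sgnBit rfEE6_3)) r := by
  intro r hr
  have hr' : r < 72 := hr
  exact rowsF_spec _ _ _ _ 0 rfRwE6_3_0 r (by omega) (by rw [rfPlE6_3_0]; omega) hr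
theorem rfOKE6_3 : ReflOK chevE6 3 (dig256 rfRE6_3) (sgnBit rfEE6_3) :=
  ⟨rfF1E6_3, rfRowsE6_3, rfH2E6_3, rfH1E6_3, rfLkE6_3⟩

def rfRE6_4 : ℕ := 68860724850632303803458732998465812266828810094652722312245356555948991877575451183817923578624086719198522082862514929281160200302940551006277733868069131789022201037127936
def rfEE6_4 : ℕ := 669309514447770948132
set_option maxHeartbeats 0 in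
theorem rfF1E6_4 : chkF1 chevE6 (dig256 rfRE6_4) (sgnBit rfEE6_4) = true := by decide +kernel
set_option maxHeartbeats 0 in
theorem rfH2E6_4 : chkH2 chevE6 (dig256 rfRE6_4) 4 = true := by decide +kernel
set_option maxHeartbeats 0 in
theorem rfH1E6_4 : chkH1 chevE6 (dig256 rfRE6_4) 4 = true := by decide +kernel
set_option maxHeartbeats 0 in
theorem rfLkE6_4 : chkLinkF chevE6 (dig256 rfRE6_4) (sgnBit rfEE6_4) 4 = true := by decide +kernel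
def rfPE6_4_0 : List (List ℕ) := [[0, 2, 1, 3, 5, 4, 6, 7, 9, 8, 11, 10, 12, 13, 15, 14, 16, 18, 17, 19], [0, 2, 1, 3, 5, 4, 6, 7, 9, 8, 11, 10, 12, 13, 15, 14, 16, 18, 17, 19], [0, 1, 2, 3, 4, 5, 6, 7, 8, 9, 10, 11, 12, 13, 14, 15, 16, 17, 18, 19], [0, 1, 2, 3, 4, 5, 6, 7, 8, 9, 10, 11, 12, 13, 14, 15, 16, 17, 18, 19], [0, 1, 3, 2, 4, 6, 5, 8, 7, 9, 10, 12, 11, 14, 13, 15, 17, 16, 18, 19], [0, 1, 2, 3, 4, 5, 6, 7, 8, 9, 10, 11, 12, 13, 14, 15, 16, 17, 18, 19], [0, 1, 2, 3, 4, 5, 6, 7, 8, 9, 10, 11, 12, 13, 14, 15, 16, 17, 18, 19], [0, 1, 2, 4, 3, 6, 5, 8, 7, 9, 10, 12, 11, 14, 13, 16, 15, 17, 18, 19], [0, 2, 1, 4, 3, 6, 5, 7, 8, 9, 10, 11, 12, 14, 13, 16, 15, 18, 17, 19], [0, 1, 2, 3, 4, 5, 6, 7, 8, 9, 10, 11, 12, 13, 14, 15, 16, 17, 18, 19], [0, 1,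 2, 3, 4, 5, 6, 7, 8, 9, 10, 11, 12, 13, 14, 15, 16, 17, 18, 19], [0, 2, 1, 4, 3, 5, 7, 6, 8, 9, 10, 11, 13, 12, 14, 16, 15, 18, 17, 19], [0, 1, 2, 3, 4, 5, 6, 7, 8, 9, 10, 11, 12, 13, 14, 15, 16, 17, 18, 19], [0, 1, 2, 3, 4, 5, 6, 7, 8, 9, 10, 11, 12, 13, 14, 15, 16, 17, 18, 19], [1, 0, 2, 3, 5, 4, 6, 8, 7, 9, 10, 12, 11, 13, 15, 14, 16, 17, 19, 18], [1, 0, 2, 3, 5, 4, 6, 8, 7, 9, 10, 12, 11, 13, 15, 14, 16, 17, 19, 18], [0, 1, 2, 3, 4, 5, 6, 7, 8, 9, 10, 11, 12, 13, 14, 15, 16, 17, 18, 19], [0, 1, 2, 3, 4, 5, 6, 7, 8, 9, 10, 11, 12, 13, 14, 15, 16, 17, 18, 19], [0, 1, 2, 3, 5, 4, 7, 6, 9, 8, 11, 10, 13, 12, 15, 14, 16, 17, 18, 19], [0, 2, 1, 3, 5, 4, 7, 6, 8, 9, 10, 11, 13, 12, 15, 14, 16, 18, 17, 19], [0, 1, 2, 3, 4, 5, 6, 7, 8, 9, 10, 11, 12, 13,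 14, 15, 16, 17, 18, 19], [0, 1, 2, 3, 4, 5, 6, 7, 8, 9, 10, 11, 12, 13, 14, 15, 16, 17, 18, 19], [0, 2, 1, 3, 5, 4, 6, 8, 7, 9, 10, 12, 11, 13, 15, 14, 16, 18, 17, 19], [0, 1, 2, 3, 4, 5, 6, 7, 8, 9, 10, 11, 12, 13, 14, 15, 16, 17, 18, 19], [0, 1, 2, 3, 4, 5, 6, 7, 8, 9, 10, 11, 12, 13, 14, 15, 16, 17, 18, 19], [0, 1, 3, 2, 4, 6, 5, 7, 9, 8, 11, 10, 12, 14, 13, 15, 17, 16, 18, 19], [0, 2, 1, 3, 5, 4, 6, 8, 7, 9, 10, 12, 11, 13, 15, 14, 16, 18, 17, 19], [0, 1, 2, 3, 4, 5, 6, 7, 8, 9, 10, 11, 12, 13, 14, 15, 16, 17, 18, 19], [0, 1, 2, 3, 4, 5, 6, 7, 8, 9, 10, 11, 12, 13, 14, 15, 16, 17, 18, 19], [1, 0, 2, 3, 4, 6, 5, 7, 9, 8, 11, 10, 12, 14, 13, 15, 16, 17, 19, 18], [0, 2, 1, 3, 5, 4, 6, 7, 9, 8, 11, 10, 12, 13, 15, 14, 16, 18, 17, 19], [0, 1, 2, 3, 4,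 5, 6, 7, 8, 9, 10, 11, 12, 13, 14, 15, 16, 17, 18, 19], [0, 1, 2, 3, 4, 5, 6, 7, 8, 9, 10, 11, 12, 13, 14, 15, 16, 17, 18, 19], [0, 1, 2, 3, 4, 5, 6, 7, 8, 10, 9, 11, 12, 13, 14, 15, 16, 17, 18, 19], [0, 1, 2, 3, 4, 5, 6, 7, 8, 9, 10, 11, 12, 13, 14, 15, 16, 17, 18, 19], [0, 1, 2, 3, 4, 5, 6, 7, 8, 10, 9, 11, 12, 13, 14, 15, 16, 17, 18, 19], [0, 1, 2, 3, 4, 5, 6, 7, 8, 10, 9, 11, 12, 13, 14, 15, 16, 17, 18, 19], [0, 1, 2, 3, 4, 5, 6, 7, 8, 9, 10, 11, 12, 13, 14, 15, 16, 17, 18, 19], [0, 1, 2, 3, 4, 5, 6, 7, 8, 10, 9, 11, 12, 13, 14, 15, 16, 17, 18, 19], [0, 1, 2, 3, 4, 5, 6, 7, 8, 9, 10, 11, 12, 13, 14, 15, 16, 17, 18, 19], [0, 1, 2, 3, 4, 5, 6, 7, 8, 9, 10, 11, 12, 13, 14, 15, 16, 17, 18, 19], [0, 2, 1, 3, 5, 4, 6, 7, 9, 8, 11, 10, 12, 13, 15, 14, 16,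 18, 17, 19], [1, 0, 2, 3, 4, 6, 5, 7, 9, 8, 11, 10, 12, 14, 13, 15, 16, 17, 19, 18], [0, 1, 2, 3, 4, 5, 6, 7, 8, 9, 10, 11, 12, 13, 14, 15, 16, 17, 18, 19], [0, 1, 2, 3, 4, 5, 6, 7, 8, 9, 10, 11, 12, 13, 14, 15, 16, 17, 18, 19], [0, 2, 1, 3, 5, 4, 6, 8, 7, 9, 10, 12, 11, 13, 15, 14, 16, 18, 17, 19], [0, 1, 3, 2, 4, 6, 5, 7, 9, 8, 11, 10, 12, 14, 13, 15, 17, 16, 18, 19], [0, 1, 2, 3, 4, 5, 6, 7, 8, 9, 10, 11, 12, 13, 14, 15, 16, 17, 18, 19], [0, 1, 2, 3, 4, 5, 6, 7, 8, 9, 10, 11, 12, 13, 14, 15, 16, 17, 18, 19], [0, 2, 1, 3, 5, 4, 6, 8, 7, 9, 10, 12, 11, 13, 15, 14, 16, 18, 17, 19], [0, 1, 2, 3, 4, 5, 6, 7, 8, 9, 10, 11, 12, 13, 14, 15, 16, 17, 18, 19], [0, 1, 2, 3, 4, 5, 6, 7, 8, 9, 10, 11, 12, 13, 14, 15, 16, 17, 18, 19], [0, 2, 1, 3, 5, 4, 7, 6, 8,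 9, 10, 11, 13, 12, 15, 14, 16, 18, 17, 19], [0, 1, 2, 3, 5, 4, 7, 6, 9, 8, 11, 10, 13, 12, 15, 14, 16, 17, 18, 19], [0, 1, 2, 3, 4, 5, 6, 7, 8, 9, 10, 11, 12, 13, 14, 15, 16, 17, 18, 19], [0, 1, 2, 3, 4, 5, 6, 7, 8, 9, 10, 11, 12, 13, 14, 15, 16, 17, 18, 19], [1, 0, 2, 3, 5, 4, 6, 8, 7, 9, 10, 12, 11, 13, 15, 14, 16, 17, 19, 18], [1, 0, 2, 3, 5, 4, 6, 8, 7, 9, 10, 12, 11, 13, 15, 14, 16, 17, 19, 18], [0, 1, 2, 3, 4, 5, 6, 7, 8, 9, 10, 11, 12, 13, 14, 15, 16, 17, 18, 19], [0, 1, 2, 3, 4, 5, 6, 7, 8, 9, 10, 11, 12, 13, 14, 15, 16, 17, 18, 19], [0, 2, 1, 4, 3, 5, 7, 6, 8, 9, 10, 11, 13, 12, 14, 16, 15, 18, 17, 19], [0, 1, 2, 3, 4, 5, 6, 7, 8, 9, 10, 11, 12, 13, 14, 15, 16, 17, 18, 19], [0, 1, 2, 3, 4, 5, 6, 7, 8, 9, 10, 11, 12, 13, 14, 15, 16, 17, 18, 19],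 [0, 2, 1, 4, 3, 6, 5, 7, 8, 9, 10, 11, 12, 14, 13, 16, 15, 18, 17, 19], [0, 1, 2, 4, 3, 6, 5, 8, 7, 9, 10, 12, 11, 14, 13, 16, 15, 17, 18, 19], [0, 1, 2, 3, 4, 5, 6, 7, 8, 9, 10, 11, 12, 13, 14, 15, 16, 17, 18, 19], [0, 1, 2, 3, 4, 5, 6, 7, 8, 9, 10, 11, 12, 13, 14, 15, 16, 17, 18, 19], [0, 1, 3, 2, 4, 6, 5, 8, 7, 9, 10, 12, 11, 14, 13, 15, 17, 16, 18, 19], [0, 1, 2, 3, 4, 5, 6, 7, 8, 9, 10, 11, 12, 13, 14, 15, 16, 17, 18, 19], [0, 1, 2, 3, 4, 5, 6, 7, 8, 9, 10, 11, 12, 13, 14, 15, 16, 17, 18, 19], [0, 2, 1, 3, 5, 4, 6, 7, 9, 8, 11, 10, 12, 13, 15, 14, 16, 18, 17, 19], [0, 2, 1, 3, 5, 4, 6, 7, 9, 8, 11, 10, 12, 13, 15, 14, 16, 18, 17, 19]]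
theorem rfPlE6_4_0 : rfPE6_4_0.length = 72 := by decide +kernel
set_option maxHeartbeats 0 in
theorem rfRwE6_4_0 : rowsF chevE6 (dig256 rfRE6_4) (sgnBit rfEE6_4) 0 rfPE6_4_0 = true := by decide +kernel
theorem rfRowsE6_4 : ∀ r < chevE6.nroots, RowOK chevE6 (fnG chevE6.nroots (dig256 rfRE6_4) (sgnBit rfEE6_4)) r := by
  intro r hr
  have hr' : r < 72 := hr
  exact rowsF_spec _ _ _ _ 0 rfRwE6_4_0 r (by omega) (by rw [rfPlE6_4_0]; omega) hr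
theorem rfOKE6_4 : ReflOK chevE6 4 (dig256 rfRE6_4) (sgnBit rfEE6_4) :=
  ⟨rfF1E6_4, rfRowsE6_4, rfH2E6_4, rfH1E6_4, rfLkE6_4⟩

def rfRE6_5 : ℕ := 68860739477726650154684651250440147524905899556371060941805998667168077050675229181777609482453672249988869994526207384147299178654162362870440666247900439482662894518272256
def rfEE6_5 : ℕ := 342440805587411929416
set_option maxHeartbeats 0 in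
theorem rfF1E6_5 : chkF1 chevE6 (dig256 rfRE6_5) (sgnBit rfEE6_5) = true := by decide +kernel
set_option maxHeartbeats 0 in
theorem rfH2E6_5 : chkH2 chevE6 (dig256 rfRE6_5) 5 = true := by decide +kernel
set_option maxHeartbeats 0 in
theorem rfH1E6_5 : chkH1 chevE6 (dig256 rfRE6_5) 5 = true := by decide +kernel
set_option maxHeartbeats 0 in
theorem rfLkE6_5 : chkLinkF chevE6 (dig256 rfRE6_5) (sgnBit rfEE6_5) 5 = true := by decide +kernel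
def rfPE6_5_0 : List (List ℕ) := [[0, 1, 3, 2, 4, 6, 5, 8, 7, 9, 10, 12, 11, 14, 13, 15, 17, 16, 18, 19], [0, 1, 3, 2, 4, 6, 5, 8, 7, 9, 10, 12, 11, 14, 13, 15, 17, 16, 18, 19], [0, 1, 3, 2, 4, 6, 5, 8, 7, 9, 10, 12, 11, 14, 13, 15, 17, 16, 18, 19], [0, 1, 2, 3, 4, 5, 6, 7, 8, 9, 10, 11, 12, 13, 14, 15, 16, 17, 18, 19], [0, 1, 2, 3, 4, 5, 6, 7, 8, 9, 10, 11, 12, 13, 14, 15, 16, 17, 18, 19], [0, 1, 2, 4, 3, 6, 5, 8, 7, 9, 10, 12, 11, 14, 13, 16, 15, 17, 18, 19], [0, 1, 2, 3, 4, 5, 6, 7, 8, 9, 10, 11, 12, 13, 14, 15, 16, 17, 18, 19], [0, 1, 2, 3, 4, 5, 6, 7, 8, 9, 10, 11, 12, 13, 14, 15, 16, 17, 18, 19], [0, 1, 2, 3, 4, 5, 6, 7, 8, 9, 10, 11, 12, 13, 14, 15, 16, 17, 18, 19], [0, 1, 2, 3, 4, 5, 6, 7, 8, 9, 10, 11, 12, 13, 14, 15, 16, 17, 18, 19], [0, 2,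 1, 4, 3, 6, 5, 7, 8, 9, 10, 11, 12, 14, 13, 16, 15, 18, 17, 19], [0, 1, 2, 3, 4, 5, 6, 7, 8, 9, 10, 11, 12, 13, 14, 15, 16, 17, 18, 19], [0, 1, 2, 3, 4, 5, 6, 7, 8, 9, 10, 11, 12, 13, 14, 15, 16, 17, 18, 19], [0, 2, 1, 4, 3, 5, 7, 6, 8, 9, 10, 11, 13, 12, 14, 16, 15, 18, 17, 19], [0, 2, 1, 4, 3, 5, 7, 6, 8, 9, 10, 11, 13, 12, 14, 16, 15, 18, 17, 19], [0, 2, 1, 4, 3, 5, 7, 6, 8, 9, 10, 11, 13, 12, 14, 16, 15, 18, 17, 19], [0, 1, 2, 3, 5, 4, 7, 6, 9, 8, 11, 10, 13, 12, 15, 14, 16, 17, 18, 19], [0, 1, 2, 3, 4, 5, 6, 7, 8, 9, 10, 11, 12, 13, 14, 15, 16, 17, 18, 19], [0, 1, 2, 3, 4, 5, 6, 7, 8, 9, 10, 11, 12, 13, 14, 15, 16, 17, 18, 19], [0, 1, 2, 3, 4, 5, 6, 7, 8, 9, 10, 11, 12, 13, 14, 15, 16, 17, 18, 19], [0, 1, 2, 3, 4, 5, 6, 7, 8, 9, 10, 11, 12, 13,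 14, 15, 16, 17, 18, 19], [0, 2, 1, 3, 5, 4, 7, 6, 8, 9, 10, 11, 13, 12, 15, 14, 16, 18, 17, 19], [0, 1, 2, 3, 4, 5, 6, 7, 8, 9, 10, 11, 12, 13, 14, 15, 16, 17, 18, 19], [0, 1, 2, 3, 4, 5, 6, 7, 8, 9, 10, 11, 12, 13, 14, 15, 16, 17, 18, 19], [0, 2, 1, 3, 5, 4, 6, 8, 7, 9, 10, 12, 11, 13, 15, 14, 16, 18, 17, 19], [0, 2, 1, 3, 5, 4, 6, 8, 7, 9, 10, 12, 11, 13, 15, 14, 16, 18, 17, 19], [0, 1, 2, 3, 4, 5, 6, 7, 8, 9, 10, 11, 12, 13, 14, 15, 16, 17, 18, 19], [0, 1, 2, 3, 4, 5, 6, 7, 8, 9, 10, 11, 12, 13, 14, 15, 16, 17, 18, 19], [0, 2, 1, 3, 5, 4, 6, 8, 7, 9, 10, 12, 11, 13, 15, 14, 16, 18, 17, 19], [0, 2, 1, 3, 5, 4, 6, 8, 7, 9, 10, 12, 11, 13, 15, 14, 16, 18, 17, 19], [0, 1, 2, 3, 4, 5, 6, 7, 8, 9, 10, 11, 12, 13, 14, 15, 16, 17, 18, 19], [0, 1, 2, 3, 4,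 5, 6, 7, 8, 9, 10, 11, 12, 13, 14, 15, 16, 17, 18, 19], [0, 2, 1, 3, 5, 4, 6, 7, 9, 8, 11, 10, 12, 13, 15, 14, 16, 18, 17, 19], [0, 1, 2, 3, 4, 5, 6, 7, 8, 9, 10, 11, 12, 13, 14, 15, 16, 17, 18, 19], [0, 1, 2, 3, 4, 5, 6, 7, 8, 9, 10, 11, 12, 13, 14, 15, 16, 17, 18, 19], [0, 1, 2, 3, 4, 5, 6, 7, 8, 9, 10, 11, 12, 13, 14, 15, 16, 17, 18, 19], [0, 1, 2, 3, 4, 5, 6, 7, 8, 9, 10, 11, 12, 13, 14, 15, 16, 17, 18, 19], [0, 1, 2, 3, 4, 5, 6, 7, 8, 9, 10, 11, 12, 13, 14, 15, 16, 17, 18, 19], [0, 1, 2, 3, 4, 5, 6, 7, 8, 9, 10, 11, 12, 13, 14, 15, 16, 17, 18, 19], [0, 2, 1, 3, 5, 4, 6, 7, 9, 8, 11, 10, 12, 13, 15, 14, 16, 18, 17, 19], [0, 1, 2, 3, 4, 5, 6, 7, 8, 9, 10, 11, 12, 13, 14, 15, 16, 17, 18, 19], [0, 1, 2, 3, 4, 5, 6, 7, 8, 9, 10, 11, 12, 13, 14, 15, 16,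 17, 18, 19], [0, 2, 1, 3, 5, 4, 6, 8, 7, 9, 10, 12, 11, 13, 15, 14, 16, 18, 17, 19], [0, 2, 1, 3, 5, 4, 6, 8, 7, 9, 10, 12, 11, 13, 15, 14, 16, 18, 17, 19], [0, 1, 2, 3, 4, 5, 6, 7, 8, 9, 10, 11, 12, 13, 14, 15, 16, 17, 18, 19], [0, 1, 2, 3, 4, 5, 6, 7, 8, 9, 10, 11, 12, 13, 14, 15, 16, 17, 18, 19], [0, 2, 1, 3, 5, 4, 6, 8, 7, 9, 10, 12, 11, 13, 15, 14, 16, 18, 17, 19], [0, 2, 1, 3, 5, 4, 6, 8, 7, 9, 10, 12, 11, 13, 15, 14, 16, 18, 17, 19], [0, 1, 2, 3, 4, 5, 6, 7, 8, 9, 10, 11, 12, 13, 14, 15, 16, 17, 18, 19], [0, 1, 2, 3, 4, 5, 6, 7, 8, 9, 10, 11, 12, 13, 14, 15, 16, 17, 18, 19], [0, 2, 1, 3, 5, 4, 7, 6, 8, 9, 10, 11, 13, 12, 15, 14, 16, 18, 17, 19], [0, 1, 2, 3, 4, 5, 6, 7, 8, 9, 10, 11, 12, 13, 14, 15, 16, 17, 18, 19], [0, 1, 2, 3, 4, 5, 6, 7, 8,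 9, 10, 11, 12, 13, 14, 15, 16, 17, 18, 19], [0, 1, 2, 3, 4, 5, 6, 7, 8, 9, 10, 11, 12, 13, 14, 15, 16, 17, 18, 19], [0, 1, 2, 3, 4, 5, 6, 7, 8, 9, 10, 11, 12, 13, 14, 15, 16, 17, 18, 19], [0, 1, 2, 3, 5, 4, 7, 6, 9, 8, 11, 10, 13, 12, 15, 14, 16, 17, 18, 19], [0, 2, 1, 4, 3, 5, 7, 6, 8, 9, 10, 11, 13, 12, 14, 16, 15, 18, 17, 19], [0, 2, 1, 4, 3, 5, 7, 6, 8, 9, 10, 11, 13, 12, 14, 16, 15, 18, 17, 19], [0, 2, 1, 4, 3, 5, 7, 6, 8, 9, 10, 11, 13, 12, 14, 16, 15, 18, 17, 19], [0, 1, 2, 3, 4, 5, 6, 7, 8, 9, 10, 11, 12, 13, 14, 15, 16, 17, 18, 19], [0, 1, 2, 3, 4, 5, 6, 7, 8, 9, 10, 11, 12, 13, 14, 15, 16, 17, 18, 19], [0, 2, 1, 4, 3, 6, 5, 7, 8, 9, 10, 11, 12, 14, 13, 16, 15, 18, 17, 19], [0, 1, 2, 3, 4, 5, 6, 7, 8, 9, 10, 11, 12, 13, 14, 15, 16, 17, 18, 19],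 [0, 1, 2, 3, 4, 5, 6, 7, 8, 9, 10, 11, 12, 13, 14, 15, 16, 17, 18, 19], [0, 1, 2, 3, 4, 5, 6, 7, 8, 9, 10, 11, 12, 13, 14, 15, 16, 17, 18, 19], [0, 1, 2, 3, 4, 5, 6, 7, 8, 9, 10, 11, 12, 13, 14, 15, 16, 17, 18, 19], [0, 1, 2, 4, 3, 6, 5, 8, 7, 9, 10, 12, 11, 14, 13, 16, 15, 17, 18, 19], [0, 1, 2, 3, 4, 5, 6, 7, 8, 9, 10, 11, 12, 13, 14, 15, 16, 17, 18, 19], [0, 1, 2, 3, 4, 5, 6, 7, 8, 9, 10, 11, 12, 13, 14, 15, 16, 17, 18, 19], [0, 1, 3, 2, 4, 6, 5, 8, 7, 9, 10, 12, 11, 14, 13, 15, 17, 16, 18, 19], [0, 1, 3, 2, 4, 6, 5, 8, 7, 9, 10, 12, 11, 14, 13, 15, 17, 16, 18, 19], [0, 1, 3, 2, 4, 6, 5, 8, 7, 9, 10, 12, 11, 14, 13, 15, 17, 16, 18, 19]]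
theorem rfPlE6_5_0 : rfPE6_5_0.length = 72 := by decide +kernel
set_option maxHeartbeats 0 in
theorem rfRwE6_5_0 : rowsF chevE6 (dig256 rfRE6_5) (sgnBit rfEE6_5) 0 rfPE6_5_0 = true := by decide +kernel
theorem rfRowsE6_5 : ∀ r < chevE6.nroots, RowOK chevE6 (fnG chevE6.nroots (dig256 rfRE6_5) (sgnBit rfEE6_5)) r := by
  intro r hr
  have hr' : r < 72 := hr
  exact rowsF_spec _ _ _ _ 0 rfRwE6_5_0 r (by omega) (by rw [rfPlE6_5_0]; omega) hr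
theorem rfOKE6_5 : ReflOK chevE6 5 (dig256 rfRE6_5) (sgnBit rfEE6_5) :=
  ⟨rfF1E6_5, rfRowsE6_5, rfH2E6_5, rfH1E6_5, rfLkE6_5⟩

theorem rfAllE6 : ∀ i < chevE6.rank, ∃ (ρf : ℕ → ℕ) (εf : ℕ → ℤ), ReflOK chevE6 i ρf εf := by
  intro i hi
  have hi' : i < 6 := hi
  interval_cases i
  · exact ⟨_, _, rfOKE6_0⟩
  · exact ⟨_, _, rfOKE6_1⟩
  · exact ⟨_, _, rfOKE6_2⟩
  · exact ⟨_, _, rfOKE6_3⟩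
  · exact ⟨_, _, rfOKE6_4⟩
  · exact ⟨_, _, rfOKE6_5⟩

end Cfsg.Agent.Lib.Helper3
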