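import Mathlib
import Cfsg.Agent.Lib.Helper3.ChevTorus

set_option autoImplicit false

namespace Cfsg.Agent.Lib.Helper3

open Cfsg.Lie

def smCG2 : Matrix (Fin 2) (Fin 2) ℤ := !![2, -3; -1, 2]
def smPG2 : Matrix (Fin 2) (Fin 2) ℤ := !![0, -1; 1, 2]
def smPiG2 : Matrix (Fin 2) (Fin 2) ℤ := !![2, 1; -1, 0]
def smQG2 : Matrix (Fin 2) (Fin 2) ℤ := !![1, 2; 0, 1]
def smQiG2 : Matrix (Fin 2) (Fin 2) ℤ := !![1, -2; 0, 1]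
def smDG2 : Fin 2 → ℕ := ![1, 1]

theorem smPPiG2 : smPG2 * smPiG2 = 1 := by decide +kernel
theorem smPiPG2 : smPiG2 * smPG2 = 1 := by decide +kernel
theorem smQiQG2 : smQiG2 * smQG2 = 1 := by decide +kernel
theorem smEqG2 : smCG2 = smPiG2 * Matrix.diagonal (fun j => (smDG2 j : ℤ)) * smQiG2 := by decide +kernel
theorem smCart0G2 : (Matrix.of fun i j : Fin 2 => chevG2.cartan i (chevG2.simple j)) = smCG2 := by decide +kernel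
theorem smCartG2 (i j : Fin 2) : chevG2.cartan i (chevG2.simple j) = smCG2 i j := congrFun (congrFun smCart0G2 i) j
theorem smSpanG2 : (∀ j, smDG2 j = 1) ∨ ∀ s < chevG2.nroots, ∃ m : Fin 2 → ℤ, ∀ i : Fin 2, chevG2.cartan i s = ∑ j, smCG2 i j * m j :=
  Or.inl (by decide +kernel)

def smCB2 : Matrix (Fin 2) (Fin 2) ℤ := !![2, -2; -1, 2]
def smPB2 : Matrix (Fin 2) (Fin 2) ℤ := !![0, -1; 1, 2]
def smPiB2 : Matrix (Fin 2) (Fin 2) ℤ := !![2, 1; -1, 0]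
def smQB2 : Matrix (Fin 2) (Fin 2) ℤ := !![1, 2; 0, 1]
def smQiB2 : Matrix (Fin 2) (Fin 2) ℤ := !![1, -2; 0, 1]
def smDB2 : Fin 2 → ℕ := ![1, 2]

theorem smPPiB2 : smPB2 * smPiB2 = 1 := by decide +kernel
theorem smPiPB2 : smPiB2 * smPB2 = 1 := by decide +kernel
theorem smQiQB2 : smQiB2 * smQB2 = 1 := by decide +kernel
theorem smEqB2 : smCB2 = smPiB2 * Matrix.diagonal (fun j => (smDB2 j : ℤ)) * smQiB2 := by decide +kernel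
theorem smCart0B2 : (Matrix.of fun i j : Fin 2 => chevB2.cartan i (chevB2.simple j)) = smCB2 := by decide +kernel
theorem smCartB2 (i j : Fin 2) : chevB2.cartan i (chevB2.simple j) = smCB2 i j := congrFun (congrFun smCart0B2 i) j
def smMB2 : List (List ℤ) := [[-2, -1], [-1, -1], [-1, 0], [0, -1], [0, 1], [1, 0], [1, 1], [2, 1]]
theorem smSpan0B2 : ∀ s < chevB2.nroots, ∀ i : Fin 2, chevB2.cartan i s = ∑ j : Fin 2, smCB2 i j * ((smMB2.getD s []).getD j 0) := by decide +kernel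
theorem smSpanB2 : (∀ j, smDB2 j = 1) ∨ ∀ s < chevB2.nroots, ∃ m : Fin 2 → ℤ, ∀ i : Fin 2, chevB2.cartan i s = ∑ j, smCB2 i j * m j :=
  Or.inr fun s hs => ⟨_, smSpan0B2 s hs⟩

def smCD4 : Matrix (Fin 4) (Fin 4) ℤ := !![2, -1, 0, 0; -1, 2, -1, -1; 0, -1, 2, 0; 0, -1, 0, 2]
def smPD4 : Matrix (Fin 4) (Fin 4) ℤ := !![-1, 0, 0, 0; -2, -1, 0, 0; -3, -2, -1, 0; 2, 2, 1, 1]
def smPiD4 : Matrix (Fin 4) (Fin 4) ℤ := !![-1, 0, 0, 0; 2, -1, 0, 0; -1, 2, -1, 0; -1, 0, 1, 1]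
def smQD4 : Matrix (Fin 4) (Fin 4) ℤ := !![0, 0, 0, 1; 1, 0, 0, 2; 0, 1, -1, 1; 0, 0, 1, 2]
def smQiD4 : Matrix (Fin 4) (Fin 4) ℤ := !![-2, 1, 0, 0; -3, 0, 1, 1; -2, 0, 0, 1; 1, 0, 0, 0]
def smDD4 : Fin 4 → ℕ := ![1, 1, 2, 2]

theorem smPPiD4 : smPD4 * smPiD4 = 1 := by decide +kernel
theorem smPiPD4 : smPiD4 * smPD4 = 1 := by decide +kernel
theorem smQiQD4 : smQiD4 * smQD4 = 1 := by decide +kernel
theorem smEqD4 : smCD4 = smPiD4 * Matrix.diagonal (fun j => (smDD4 j : ℤ)) * smQiD4 := by decide +kernel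
theorem smCart0D4 : (Matrix.of fun i j : Fin 4 => chevD4.cartan i (chevD4.simple j)) = smCD4 := by decide +kernel
theorem smCartD4 (i j : Fin 4) : chevD4.cartan i (chevD4.simple j) = smCD4 i j := congrFun (congrFun smCart0D4 i) j
set_option maxHeartbeats 0 in
theorem smSpan0D4 : ∀ s < chevD4.nroots, ∀ i : Fin 4, chevD4.cartan i s = ∑ j : Fin 4, smCD4 i j * ((chevD4.coroot.getD s #[]).getD j 0) := by decide +kernel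
theorem smSpanD4 : (∀ j, smDD4 j = 1) ∨ ∀ s < chevD4.nroots, ∃ m : Fin 4 → ℤ, ∀ i : Fin 4, chevD4.cartan i s = ∑ j, smCD4 i j * m j :=
  Or.inr fun s hs => ⟨_, smSpan0D4 s hs⟩

def smCF4 : Matrix (Fin 4) (Fin 4) ℤ := !![2, -1, 0, 0; -1, 2, -2, 0; 0, -1, 2, -1; 0, 0, -1, 2]
def smPF4 : Matrix (Fin 4) (Fin 4) ℤ := !![-1, 0, 0, 0; 1, 0, -1, 0; -2, -1, 0, 0; -2, -2, -2, -1]
def smPiF4 : Matrix (Fin 4) (Fin 4) ℤ := !![-1, 0, 0, 0; 2, 0, -1, 0; -1, -1, 0, 0; 0, 2, 2, -1]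
def smQF4 : Matrix (Fin 4) (Fin 4) ℤ := !![0, 0, 1, -2; 1, 0, 2, -4; 0, 0, 2, -3; 0, 1, 2, -2]
def smQiF4 : Matrix (Fin 4) (Fin 4) ℤ := !![-2, 1, 0, 0; 2, 0, -2, 1; -3, 0, 2, 0; -2, 0, 1, 0]
def smDF4 : Fin 4 → ℕ := ![1, 1, 1, 1]

theorem smPPiF4 : smPF4 * smPiF4 = 1 := by decide +kernel
theorem smPiPF4 : smPiF4 * smPF4 = 1 := by decide +kernel
theorem smQiQF4 : smQiF4 * smQF4 = 1 := by decide +kernel
theorem smEqF4 : smCF4 = smPiF4 * Matrix.diagonal (fun j => (smDF4 j : ℤ)) * smQiF4 := by decide +kernel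
theorem smCart0F4 : (Matrix.of fun i j : Fin 4 => chevF4.cartan i (chevF4.simple j)) = smCF4 := by decide +kernel
theorem smCartF4 (i j : Fin 4) : chevF4.cartan i (chevF4.simple j) = smCF4 i j := congrFun (congrFun smCart0F4 i) j
theorem smSpanF4 : (∀ j, smDF4 j = 1) ∨ ∀ s < chevF4.nroots, ∃ m : Fin 4 → ℤ, ∀ i : Fin 4, chevF4.cartan i s = ∑ j, smCF4 i j * m j :=
  Or.inl (by decide +kernel)

def smCE8 : Matrix (Fin 8) (Fin 8) ℤ := !![2, 0, -1, 0, 0, 0, 0, 0; 0, 2, 0, -1, 0, 0, 0, 0; -1, 0, 2, -1, 0, 0, 0, 0; 0, -1, -1, 2, -1, 0, 0, 0; 0, 0, 0, -1, 2, -1, 0, 0; 0, 0, 0, 0, -1, 2, -1, 0; 0, 0, 0, 0, 0, -1, 2, -1; 0, 0, 0, 0, 0, 0, -1, 2]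
def smPE8 : Matrix (Fin 8) (Fin 8) ℤ := !![-1, 0, 0, 0, 0, 0, 0, 0; 0, -1, 0, 0, 0, 0, 0, 0; 1, -2, 0, -1, 0, 0, 0, 0; 2, -3, 0, -2, -1, 0, 0, 0; 3, -4, 0, -3, -2, -1, 0, 0; 4, -5, 0, -4, -3, -2, -1, 0; -2, 1, -1, 0, 0, 0, 0, 0; -3, -2, -4, -5, -4, -3, -2, -1]
def smPiE8 : Matrix (Fin 8) (Fin 8) ℤ := !![-1, 0, 0, 0, 0, 0, 0, 0; 0, -1, 0, 0, 0, 0, 0, 0; 2, -1, 0, 0, 0, 0, -1, 0; -1, 2, -1, 0, 0, 0, 0, 0; 0, -1, 2, -1, 0, 0, 0, 0; 0, 0, -1, 2, -1, 0, 0, 0; 0, 0, 0, -1, 2, -1, 0, 0; 0, 0, 0, 0, -1, 2, 4, -1]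
def smQE8 : Matrix (Fin 8) (Fin 8) ℤ := !![0, 0, 0, 0, 0, 0, 1, -2; 0, 0, 0, 0, 0, 0, 2, -3; 1, 0, 0, 0, 0, 0, 2, -4; 0, 1, 0, 0, 0, 0, 4, -6; 0, 0, 1, 0, 0, 0, 4, -5; 0, 0, 0, 1, 0, 0, 4, -4; 0, 0, 0, 0, 1, 0, 4, -3; 0, 0, 0, 0, 0, 1, 4, -2]
def smQiE8 : Matrix (Fin 8) (Fin 8) ℤ := !![-2, 0, 1, 0, 0, 0, 0, 0; 0, -2, 0, 1, 0, 0, 0, 0; 2, -3, 0, 0, 1, 0, 0, 0; 4, -4, 0, 0, 0, 1, 0, 0; 6, -5, 0, 0, 0, 0, 1, 0; 8, -6, 0, 0, 0, 0, 0, 1; -3, 2, 0, 0, 0, 0, 0, 0; -2, 1, 0, 0, 0, 0, 0, 0]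
def smDE8 : Fin 8 → ℕ := ![1, 1, 1, 1, 1, 1, 1, 1]

theorem smPPiE8 : smPE8 * smPiE8 = 1 := by decide +kernel
theorem smPiPE8 : smPiE8 * smPE8 = 1 := by decide +kernel
theorem smQiQE8 : smQiE8 * smQE8 = 1 := by decide +kernel
theorem smEqE8 : smCE8 = smPiE8 * Matrix.diagonal (fun j => (smDE8 j : ℤ)) * smQiE8 := by decide +kernel
theorem smCart0E8 : (Matrix.of fun i j : Fin 8 => chevE8.cartan i (chevE8.simple j)) = smCE8 := by decide +kernel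
theorem smCartE8 (i j : Fin 8) : chevE8.cartan i (chevE8.simple j) = smCE8 i j := congrFun (congrFun smCart0E8 i) j
theorem smSpanE8 : (∀ j, smDE8 j = 1) ∨ ∀ s < chevE8.nroots, ∃ m : Fin 8 → ℤ, ∀ i : Fin 8, chevE8.cartan i s = ∑ j, smCE8 i j * m j :=
  Or.inl (by decide +kernel)

end Cfsg.Agent.Lib.Helper3
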