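import Mathlib
import Cfsg.Prelude.Def_Solvable

set_option autoImplicit false

namespace Cfsg.Agent.Lib.Helper3

open Cfsg

theorem pCore_normal (p : ℕ) (G : Type*) [Group G] : (pCore p G).Normal :=
  Subgroup.sSup_normal _ (fun _ hN => hN.1)

theorem pPrimeCore_normal (p : ℕ) (G : Type*) [Group G] : (pPrimeCore p G).Normal :=
  Subgroup.sSup_normal _ (fun _ hN => hN.1)

theorem fittingSubgroup_normal (G : Type*) [Group G] : (fittingSubgroup G).Normal :=
  Subgroup.sSup_normal _ (fun _ hN => hN.1)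

theorem pCore_le_sylow {G : Type*} [Group G] {p : ℕ} (S : Sylow p G) :
    pCore p G ≤ (S : Subgroup G) := by
  apply sSup_le
  intro N hN
  haveI := hN.1
  exact hN.2.le_sylow_of_normal S

theorem le_pCore {G : Type*} [Group G] {p : ℕ} (N : Subgroup G) [hn : N.Normal]
    (hN : IsPGroup p N) : N ≤ pCore p G :=
  le_sSup ⟨hn, hN⟩

theorem pCore_isPGroup (p : ℕ) [Fact p.Prime] (G : Type*) [Group G] [Finite G] :
    IsPGroup p (pCore p G) := by
  obtain ⟨S⟩ : Nonempty (Sylow p G) := inferInstance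
  exact S.isPGroup'.to_le (pCore_le_sylow S)

end Cfsg.Agent.Lib.Helper3
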