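import Mathlib
import Cfsg.Agent.Lib.Helper3.SylowIn
import Cfsg.Agent.Lib.Helper3.PPrimeP
import Cfsg.Agent.Lib.Helper3.ConjFam
import Cfsg.Agent.Lib.Lead.Coprime
import Cfsg.Agent.Lib.Lead.CoprimeSylow
import Cfsg.Agent.Lib.Lead.Charac

set_option autoImplicit false
open scoped commutatorElement

namespace Cfsg.Agent.Lib.Helper3

/-- fixed points of an automorphism -/
def fixSub {V : Type*} [Group V] (f : MulAut V) : Subgroup V where
  carrier := {v | f v = v}
  mul_mem' := by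
    intro a b ha hb
    simp only [Set.mem_ofPred_eq] at *
    rw [map_mul, ha, hb]
  one_mem' := map_one f
  inv_mem' := by
    intro a ha
    simp only [Set.mem_ofPred_eq] at *
    rw [map_inv, ha]

theorem mem_fixSub {V : Type*} [Group V] (f : MulAut V) (v : V) : v ∈ fixSub f ↔ f v = v := Iff.rfl

/-- a nontrivial central element of a faithful irreducible action is fixed-point-free -/
theorem fixSub_central_eq_bot {Q V : Type*} [Group Q] [Group V]
    (φ : Q →* MulAut V) (hφ : Function.Injective φ)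
    (hirr : ∀ M : Subgroup V, (∀ g : Q, ∀ v ∈ M, φ g v ∈ M) → M = ⊥ ∨ M = ⊤)
    {z : Q} (hz : z ∈ Subgroup.center Q) (hz1 : z ≠ 1) : fixSub (φ z) = ⊥ := by
  have hinv : ∀ g : Q, ∀ v ∈ fixSub (φ z), φ g v ∈ fixSub (φ z) := by
    intro g v hv
    rw [mem_fixSub] at hv ⊢
    have h1 : φ z (φ g v) = (φ (z * g)) v := by rw [map_mul]; rfl
    have h2 : φ g (φ z v) = (φ (g * z)) v := by rw [map_mul]; rfl
    have h3 : z * g = g * z := (Subgroup.mem_center_iff.mp hz g).symm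
    rw [h1, h3, ← h2, hv]
  rcases hirr (fixSub (φ z)) hinv with h | h
  · exact h
  · exfalso
    apply hz1
    apply hφ
    rw [map_one]
    ext v
    have : v ∈ fixSub (φ z) := by rw [h]; exact Subgroup.mem_top v
    exact this

/-- independence of three "eigenspaces" -/
theorem indep_aux {V : Type*} [CommGroup V] (c f : MulAut V)
    (hcf : ∀ v, c (f v) = f (c v))
    (hf : ∀ v, f v = v → v = 1) (hff : ∀ v, f (f v) = v → v = 1)
    (n₀ n₁ n₂ : V) (h0 : c n₀ = n₀) (h1 : c n₁ = f n₁) (h2 : c n₂ = f (f n₂))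
    (hprod : n₀ * n₁ * n₂ = 1) : n₀ = 1 ∧ n₁ = 1 ∧ n₂ = 1 := by
  have e1 : n₀ * f n₁ * f (f n₂) = 1 := by
    have := congrArg c hprod
    rwa [map_mul, map_mul, map_one, h0, h1, h2] at this
  have e2 : f (f n₀) * f (f n₁) * f (f n₂) = 1 := by
    have := congrArg (fun v => f (f v)) hprod
    simpa only [map_mul, map_one] using this
  have e3 : n₀ * f n₁ = f (f n₀) * f (f n₁) :=
    (mul_eq_one_iff_eq_inv.mp e1).trans (mul_eq_one_iff_eq_inv.mp e2).symm
  have hm' : n₀ * (f (f n₀))⁻¹ = f (f n₁) * (f n₁)⁻¹ := by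
    rw [mul_inv_eq_iff_eq_mul, mul_comm (f (f n₁) * (f n₁)⁻¹) (f (f n₀)), ← mul_assoc,
      eq_mul_inv_iff_mul_eq]
    exact e3
  have hcm : c (n₀ * (f (f n₀))⁻¹) = n₀ * (f (f n₀))⁻¹ := by
    simp only [map_mul, map_inv, hcf, h0]
  have hcm' : c (f (f n₁) * (f n₁)⁻¹) = f (f (f n₁) * (f n₁)⁻¹) := by
    simp only [map_mul, map_inv, hcf, h1]
  have hm1 : f (f n₁) * (f n₁)⁻¹ = 1 := by
    apply hf
    rw [← hcm', ← hm', hcm]
  have hn1 : n₁ = 1 := by
    apply hf
    have : f (f n₁) = f n₁ := mul_inv_eq_one.mp hm1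
    exact f.injective this
  have hn0 : n₀ = 1 := by
    apply hff
    rw [hm1] at hm'
    exact (mul_inv_eq_one.mp hm').symm
  refine ⟨hn0, hn1, ?_⟩
  rw [hn0, hn1, one_mul, one_mul] at hprod
  exact hprod

/-- fixed points of a non-central-mod-`Z₂` element have at most a third of the "dimension" -/
theorem card_fixSub_cube_le {p : ℕ} [Fact p.Prime] (hp3 : 3 ≤ p) {Q V : Type*} [Group Q] [Finite Q]
    [CommGroup V] [Finite V]
    (hQ : IsPGroup p Q) (φ : Q →* MulAut V) (hφ : Function.Injective φ)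
    (hirr : ∀ M : Subgroup V, (∀ g : Q, ∀ v ∈ M, φ g v ∈ M) → M = ⊥ ∨ M = ⊤)
    {a c : Q} (ha : ∀ t : Q, a * t * a⁻¹ * t⁻¹ ∈ Subgroup.center Q) (hac : a * c ≠ c * a) :
    Nat.card (fixSub (φ c)) ^ 3 ≤ Nat.card V := by
  obtain ⟨f, hf⟩ : ∃ f : Q, f = c * a * c⁻¹ * a⁻¹ := ⟨_, rfl⟩
  have hfc : f ∈ Subgroup.center Q := by
    have h1 := ha c
    have h2 : f = (a * c * a⁻¹ * c⁻¹)⁻¹ := by rw [hf]; group
    rw [h2]; exact Subgroup.inv_mem _ h1
  have hcaf : c * a = f * a * c := by rw [hf]; group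
  have hf1 : f ≠ 1 := by
    intro h
    apply hac
    rw [hcaf, h, one_mul]
  have hfcomm : ∀ t : Q, f * t = t * f := fun t => (Subgroup.mem_center_iff.mp hfc t).symm
  have hf2 : f ^ 2 ≠ 1 := by
    intro h
    obtain ⟨k, hk⟩ := hQ f
    have h1 : orderOf f ∣ 2 := orderOf_dvd_of_pow_eq_one h
    have h2 : orderOf f ∣ p ^ k := orderOf_dvd_of_pow_eq_one hk
    have hcop : Nat.Coprime 2 (p ^ k) := by
      apply Nat.Coprime.pow_right
      rw [Nat.coprime_primes Nat.prime_two (Fact.out : p.Prime)]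
      omega
    have h3 : orderOf f = 1 := Nat.eq_one_of_dvd_coprimes hcop h1 h2
    exact hf1 (orderOf_eq_one_iff.mp h3)
  have hf2c : f ^ 2 ∈ Subgroup.center Q := Subgroup.pow_mem _ hfc 2
  have hFf : fixSub (φ f) = ⊥ := fixSub_central_eq_bot φ hφ hirr hfc hf1
  have hFf2 : fixSub (φ (f ^ 2)) = ⊥ := fixSub_central_eq_bot φ hφ hirr hf2c hf2
  have hca : ∀ v : V, φ c (φ a v) = φ f (φ a (φ c v)) := by
    intro v
    have h1 : φ c (φ a v) = φ (c * a) v := by rw [map_mul]; rfl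
    have h2 : φ f (φ a (φ c v)) = φ (f * a * c) v := by rw [map_mul, map_mul]; rfl
    rw [h1, h2, hcaf]
  have hcf : ∀ v : V, φ c (φ f v) = φ f (φ c v) := by
    intro v
    have h1 : φ c (φ f v) = φ (c * f) v := by rw [map_mul]; rfl
    have h2 : φ f (φ c v) = φ (f * c) v := by rw [map_mul]; rfl
    rw [h1, h2, hfcomm c]
  have haf : ∀ v : V, φ a (φ f v) = φ f (φ a v) := by
    intro v
    have h1 : φ a (φ f v) = φ (a * f) v := by rw [map_mul]; rfl
    have h2 : φ f (φ a v) = φ (f * a) v := by rw [map_mul]; rfl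
    rw [h1, h2, hfcomm a]
  have hf' : ∀ v, φ f v = v → v = 1 := by
    intro v hv
    have : v ∈ fixSub (φ f) := hv
    rw [hFf] at this
    exact this
  have hff' : ∀ v, φ f (φ f v) = v → v = 1 := by
    intro v hv
    have : v ∈ fixSub (φ (f ^ 2)) := by
      rw [mem_fixSub, pow_two, map_mul]
      exact hv
    rw [hFf2] at this
    exact this
  have hinj : Function.Injective (fun x : fixSub (φ c) × fixSub (φ c) × fixSub (φ c) =>
      (x.1 : V) * φ a (x.2.1 : V) * φ a (φ a (x.2.2 : V))) := by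
    rintro ⟨⟨x0, hx0⟩, ⟨x1, hx1⟩, ⟨x2, hx2⟩⟩ ⟨⟨y0, hy0⟩, ⟨y1, hy1⟩, ⟨y2, hy2⟩⟩ hxy
    have hxy' : x0 * φ a x1 * φ a (φ a x2) = y0 * φ a y1 * φ a (φ a y2) := hxy
    rw [mem_fixSub] at hx0 hx1 hx2 hy0 hy1 hy2
    have key := indep_aux (φ c) (φ f) hcf hf' hff' (x0 / y0) (φ a (x1 / y1)) (φ a (φ a (x2 / y2)))
      (by rw [map_div, hx0, hy0])
      (by rw [hca, map_div, hx1, hy1])
      (by rw [hca, hca, map_div, hx2, hy2, haf])
      (by
        simp only [map_div]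
        rw [← mul_div_mul_comm, ← mul_div_mul_comm, div_eq_one]
        exact hxy')
    obtain ⟨k0, k1, k2⟩ := key
    have e0 : x0 = y0 := div_eq_one.mp k0
    have e1 : x1 = y1 := div_eq_one.mp ((EmbeddingLike.map_eq_one_iff (f := φ a)).mp k1)
    have e2 : x2 = y2 := div_eq_one.mp ((EmbeddingLike.map_eq_one_iff (f := φ a)).mp
      ((EmbeddingLike.map_eq_one_iff (f := φ a)).mp k2))
    subst e0 e1 e2
    rfl
  have hle := Nat.card_le_card_of_injective _ hinj
  rw [Nat.card_prod, Nat.card_prod] at hle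
  calc Nat.card (fixSub (φ c)) ^ 3
      = Nat.card (fixSub (φ c)) * (Nat.card (fixSub (φ c)) * Nat.card (fixSub (φ c))) := by ring
    _ ≤ Nat.card V := hle

/-- the core counting contradiction -/
theorem twoGen_core {p : ℕ} [Fact p.Prime] (hp3 : 3 ≤ p) {Q V : Type*} [Group Q] [Finite Q]
    [CommGroup V] [Finite V]
    (hQ : IsPGroup p Q) (φ : Q →* MulAut V) (hφ : Function.Injective φ) [Nontrivial Q]
    (hirr : ∀ M : Subgroup V, (∀ g : Q, ∀ v ∈ M, φ g v ∈ M) → M = ⊥ ∨ M = ⊤)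
    (C D : Set Q) (hC : Subgroup.closure C = ⊤) (hD : Subgroup.closure D = ⊤)
    (hfact : ∀ c ∈ C, ∀ d ∈ D, ∀ x : V, ∃ y w : V, φ d y = y ∧ φ c w = w ∧ x = y * w) : False := by
  have hcard : ∀ c ∈ C, ∀ d ∈ D,
      Nat.card V ≤ Nat.card (fixSub (φ d)) * Nat.card (fixSub (φ c)) := by
    intro c hc d hd
    rw [← Nat.card_prod]
    apply Nat.card_le_card_of_surjective
      (fun x : fixSub (φ d) × fixSub (φ c) => (x.1 : V) * (x.2 : V))
    intro x
    obtain ⟨y, w, hy, hw, rfl⟩ := hfact c hc d hd x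
    exact ⟨(⟨y, hy⟩, ⟨w, hw⟩), rfl⟩
  have hVnt : ¬ Nat.card V ≤ 1 := by
    intro h
    have hsub : Subsingleton V := (Finite.card_le_one_iff_subsingleton).mp h
    obtain ⟨q, hq⟩ := exists_ne (1 : Q)
    apply hq
    apply hφ
    ext v
    exact Subsingleton.elim _ _
  by_cases hab : ∀ a b : Q, a * b = b * a
  · have hcen : ∀ z : Q, z ∈ Subgroup.center Q :=
      fun z => Subgroup.mem_center_iff.mpr (fun g => hab g z)
    have hex : ∀ S : Set Q, Subgroup.closure S = ⊤ → ∃ c ∈ S, c ≠ 1 := by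
      intro S hS
      by_contra hcon
      push Not at hcon
      have h1 : Subgroup.closure S ≤ ⊥ := (Subgroup.closure_le _).mpr (fun s hs => by
        rw [hcon s hs]; exact Subgroup.one_mem _)
      rw [hS] at h1
      obtain ⟨q, hq⟩ := exists_ne (1 : Q)
      exact hq (Subgroup.mem_bot.mp (h1 (Subgroup.mem_top q)))
    obtain ⟨c, hc, hc1⟩ := hex C hC
    obtain ⟨d, hd, hd1⟩ := hex D hD
    have h1 := hcard c hc d hd
    rw [fixSub_central_eq_bot φ hφ hirr (hcen c) hc1,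
      fixSub_central_eq_bot φ hφ hirr (hcen d) hd1, Subgroup.card_bot] at h1
    exact hVnt h1
  · push Not at hab
    have hZ : Subgroup.center Q ≠ ⊤ := by
      intro h
      obtain ⟨a, b, hab'⟩ := hab
      have hb : b ∈ Subgroup.center Q := by rw [h]; exact Subgroup.mem_top b
      exact hab' (Subgroup.mem_center_iff.mp hb a)
    have : Nontrivial (Q ⧸ Subgroup.center Q) := QuotientGroup.nontrivial_iff.mpr hZ
    have hQ' : IsPGroup p (Q ⧸ Subgroup.center Q) := hQ.to_quotient _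
    have := hQ'.center_nontrivial
    obtain ⟨⟨ā, hā⟩, hne⟩ := exists_ne (1 : Subgroup.center (Q ⧸ Subgroup.center Q))
    obtain ⟨a, rfl⟩ := QuotientGroup.mk_surjective ā
    have ha1 : a ∉ Subgroup.center Q := by
      intro h
      apply hne
      apply Subtype.ext
      exact (QuotientGroup.eq_one_iff a).mpr h
    have haZ : ∀ t : Q, a * t * a⁻¹ * t⁻¹ ∈ Subgroup.center Q := by
      intro t
      rw [← QuotientGroup.eq_one_iff]
      have h1 := Subgroup.mem_center_iff.mp hā (t : Q ⧸ Subgroup.center Q)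
      rw [QuotientGroup.mk_mul, QuotientGroup.mk_mul, QuotientGroup.mk_mul, QuotientGroup.mk_inv,
        QuotientGroup.mk_inv, ← h1, mul_inv_cancel_right, mul_inv_cancel]
    have hex : ∀ S : Set Q, Subgroup.closure S = ⊤ → ∃ c ∈ S, a * c ≠ c * a := by
      intro S hS
      by_contra hcon
      push Not at hcon
      have h1 : Subgroup.closure S ≤ Subgroup.centralizer {a} := (Subgroup.closure_le _).mpr
        (fun s hs => Subgroup.mem_centralizer_singleton_iff.mpr (hcon s hs).symm)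
      rw [hS] at h1
      apply ha1
      rw [Subgroup.mem_center_iff]
      intro g
      exact Subgroup.mem_centralizer_singleton_iff.mp (h1 (Subgroup.mem_top g))
    obtain ⟨c, hc, hca⟩ := hex C hC
    obtain ⟨d, hd, hda⟩ := hex D hD
    have h1 := hcard c hc d hd
    have h2 := card_fixSub_cube_le hp3 hQ φ hφ hirr haZ hca
    have h3 := card_fixSub_cube_le hp3 hQ φ hφ hirr haZ hda
    have hn : 0 < Nat.card V := Nat.card_pos
    have h4 : Nat.card V ^ 3 ≤ Nat.card V ^ 2 := by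
      calc Nat.card V ^ 3 ≤ (Nat.card (fixSub (φ d)) * Nat.card (fixSub (φ c))) ^ 3 :=
            Nat.pow_le_pow_left h1 3
        _ = Nat.card (fixSub (φ d)) ^ 3 * Nat.card (fixSub (φ c)) ^ 3 := by ring
        _ ≤ Nat.card V * Nat.card V := Nat.mul_le_mul h3 h2
        _ = Nat.card V ^ 2 := by ring
    apply hVnt
    by_contra hgt
    push Not at hgt
    have : Nat.card V ^ 2 < Nat.card V ^ 3 := Nat.pow_lt_pow_right hgt (by norm_num)
    omega

section SecAct

variable {G : Type*} [Group G]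

theorem secAut_aux (N₁ N₂ : Subgroup G) [(N₂.subgroupOf N₁).Normal] (t : G)
    (h1 : t ∈ Subgroup.normalizer (N₁ : Set G)) (h2 : t ∈ Subgroup.normalizer (N₂ : Set G)) :
    (N₂.subgroupOf N₁).map ((Lead.conjNormalizer N₁ t h1 : ↥N₁ ≃* ↥N₁) : ↥N₁ →* ↥N₁) =
      N₂.subgroupOf N₁ := by
  ext x
  rw [Subgroup.mem_map]
  constructor
  · rintro ⟨y, hy, rfl⟩
    rw [Subgroup.mem_subgroupOf] at hy ⊢
    exact (Subgroup.mem_normalizer_iff.mp h2 _).mp hy
  · intro hx
    rw [Subgroup.mem_subgroupOf] at hx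
    refine ⟨(Lead.conjNormalizer N₁ t h1).symm x, ?_, by simp⟩
    rw [Subgroup.mem_subgroupOf]
    exact (Subgroup.mem_normalizer_iff''.mp h2 _).mp hx

/-- conjugation action of a normalizing element on a section `N₁ / N₂` -/
noncomputable def secAut (N₁ N₂ : Subgroup G) [(N₂.subgroupOf N₁).Normal] (t : G)
    (h1 : t ∈ Subgroup.normalizer (N₁ : Set G)) (h2 : t ∈ Subgroup.normalizer (N₂ : Set G)) :
    MulAut (↥N₁ ⧸ N₂.subgroupOf N₁) :=
  QuotientGroup.congr (N₂.subgroupOf N₁) (N₂.subgroupOf N₁) (Lead.conjNormalizer N₁ t h1)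
    (secAut_aux N₁ N₂ t h1 h2)

theorem secAut_mk (N₁ N₂ : Subgroup G) [(N₂.subgroupOf N₁).Normal] (t : G)
    (h1 : t ∈ Subgroup.normalizer (N₁ : Set G)) (h2 : t ∈ Subgroup.normalizer (N₂ : Set G))
    (n : ↥N₁) :
    secAut N₁ N₂ t h1 h2 (QuotientGroup.mk n) =
      QuotientGroup.mk (Lead.conjNormalizer N₁ t h1 n) := rfl

/-- the conjugation action of `P` on a `P`-invariant section, as a homomorphism -/
noncomputable def secHom (P N₁ N₂ : Subgroup G) [(N₂.subgroupOf N₁).Normal]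
    (h1 : P ≤ Subgroup.normalizer (N₁ : Set G)) (h2 : P ≤ Subgroup.normalizer (N₂ : Set G)) :
    ↥P →* MulAut (↥N₁ ⧸ N₂.subgroupOf N₁) :=
  MonoidHom.mk' (fun t => secAut N₁ N₂ (t : G) (h1 t.2) (h2 t.2)) (by
    intro a b
    ext x
    obtain ⟨n, rfl⟩ := QuotientGroup.mk_surjective x
    rw [MulAut.mul_apply, secAut_mk, secAut_mk, secAut_mk]
    congr 1
    apply Subtype.ext
    simp only [Lead.conjNormalizer_coe, Subgroup.coe_mul, mul_inv_rev]
    group)

theorem secHom_mk (P N₁ N₂ : Subgroup G) [(N₂.subgroupOf N₁).Normal]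
    (h1 : P ≤ Subgroup.normalizer (N₁ : Set G)) (h2 : P ≤ Subgroup.normalizer (N₂ : Set G))
    (t : ↥P) (n : ↥N₁) :
    secHom P N₁ N₂ h1 h2 t (QuotientGroup.mk n) =
      QuotientGroup.mk (⟨(t : G) * n * (t : G)⁻¹,
        (Subgroup.mem_normalizer_iff.mp (h1 t.2) n).mp n.2⟩ : ↥N₁) := rfl

end SecAct

/-- the splitting `x = y w` with `y ∈ C(d)`, `w ∈ C(c)` inside a `P`-invariant subgroup of `N` -/
theorem twoGen_fact {G : Type*} [Group G] [Finite G] {p : ℕ} [Fact p.Prime] (P : Sylow p G)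
    (N : Subgroup G) [hNn : N.Normal] (hN : (Nat.card N).Coprime p)
    (N₁ : Subgroup G) (hN₁ : N₁ ≤ N) (hPN₁ : (P : Subgroup G) ≤ Subgroup.normalizer (N₁ : Set G))
    {c d x : G} (hc : c ∈ (P : Subgroup G)) (hd : d ∈ (P : Subgroup G)) (hx : x ∈ N₁)
    (h : IsPGroup p ↥(Subgroup.closure ({x * c * x⁻¹, d} : Set G))) :
    ∃ y ∈ N₁, ∃ w ∈ N₁, y * d = d * y ∧ w * c = c * w ∧ x = y * w := by
  have hPp : IsPGroup p (P : Subgroup G) := P.isPGroup'
  have hcopN₁ : (Nat.card N₁).Coprime p :=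
    Nat.Coprime.coprime_dvd_left (Subgroup.card_dvd_of_le hN₁) hN
  have hdisj : N₁ ⊓ (P : Subgroup G) = ⊥ := by
    rw [eq_bot_iff]
    intro z hz
    exact eq_one_of_mem_coprime_of_mem_pgroup N₁ (P : Subgroup G) hcopN₁ hPp hz.1 hz.2
  have hidx : ¬ p ∣ (P : Subgroup G).relIndex (N₁ ⊔ (P : Subgroup G)) := by
    have hcard := Lead.card_sup_of_le_normalizer hPN₁ hdisj
    have hrel := Lead.relIndex_mul_card_of_le
      (le_sup_right : (P : Subgroup G) ≤ N₁ ⊔ (P : Subgroup G))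
    have h1 : (P : Subgroup G).relIndex (N₁ ⊔ (P : Subgroup G)) = Nat.card N₁ := by
      rw [hcard] at hrel
      exact Nat.eq_of_mul_eq_mul_right Nat.card_pos hrel
    rw [h1]
    exact (Nat.Prime.coprime_iff_not_dvd Fact.out).mp hcopN₁.symm
  have hQle : Subgroup.closure ({x * c * x⁻¹, d} : Set G) ≤ N₁ ⊔ (P : Subgroup G) := by
    rw [Subgroup.closure_le]
    rintro z (rfl | rfl)
    · have hx' : x ∈ N₁ ⊔ (P : Subgroup G) := (le_sup_left : N₁ ≤ _) hx
      have hc' : c ∈ N₁ ⊔ (P : Subgroup G) := (le_sup_right : (P : Subgroup G) ≤ _) hc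
      exact Subgroup.mul_mem _ (Subgroup.mul_mem _ hx' hc') (Subgroup.inv_mem _ hx')
    · exact (le_sup_right : (P : Subgroup G) ≤ _) hd
  obtain ⟨g, hg, hgQ⟩ := conj_into_sylowIn (N₁ ⊔ (P : Subgroup G)) (P : Subgroup G) _ hPp hidx hQle h
  obtain ⟨m, hm, t, ht, hgmt⟩ := Lead.mem_sup_of_le_normalizer hPN₁ (Subgroup.inv_mem _ hg)
  have hg' : g = t⁻¹ * m⁻¹ := by rw [← inv_inv g, hgmt, mul_inv_rev]
  have hconj : ∀ q ∈ Subgroup.closure ({x * c * x⁻¹, d} : Set G),
      m⁻¹ * q * m ∈ (P : Subgroup G) := by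
    intro q hq
    have h1 := hgQ q hq
    have h2 : m⁻¹ * q * m = t * (g * q * g⁻¹) * t⁻¹ := by rw [hg']; group
    rw [h2]
    exact Subgroup.mul_mem _ (Subgroup.mul_mem _ ht h1) (Subgroup.inv_mem _ ht)
  have hm' : m⁻¹ ∈ N₁ := N₁.inv_mem hm
  have hT : ∀ n ∈ N, ∀ s ∈ (P : Subgroup G), n * s * n⁻¹ ∈ (P : Subgroup G) → n * s = s * n := by
    intro n hn s hs hns
    have h1 : n * s * n⁻¹ * s⁻¹ = 1 := by
      apply eq_one_of_mem_coprime_of_mem_pgroup N (P : Subgroup G) hN hPp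
      · have h0 : n * s * n⁻¹ * s⁻¹ = n * (s * n⁻¹ * s⁻¹) := by group
        rw [h0]
        exact N.mul_mem hn (hNn.conj_mem _ (N.inv_mem hn) s)
      · exact Subgroup.mul_mem _ hns (Subgroup.inv_mem _ hs)
    have h2 : n * s * n⁻¹ = s := mul_inv_eq_one.mp h1
    calc n * s = n * s * n⁻¹ * n := by group
      _ = s * n := by rw [h2]
  have hd1 := hT m⁻¹ (hN₁ hm') d hd (by
    have h0 := hconj d (Subgroup.subset_closure (by simp))
    simpa using h0)
  have hc1 := hT (m⁻¹ * x) (N.mul_mem (hN₁ hm') (hN₁ hx)) c hc (by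
    have h0 := hconj (x * c * x⁻¹) (Subgroup.subset_closure (by simp))
    have h2 : m⁻¹ * x * c * (m⁻¹ * x)⁻¹ = m⁻¹ * (x * c * x⁻¹) * m := by group
    rw [h2]; exact h0)
  refine ⟨m, hm, m⁻¹ * x, N₁.mul_mem hm' hx, ?_, hc1, by group⟩
  calc m * d = m * (d * m⁻¹) * m := by group
    _ = m * (m⁻¹ * d) * m := by rw [hd1]
    _ = d * m := by group

/-- **Main theorem**: `P` centralizes `N`. -/
theorem twoGen_main {G : Type*} [Group G] [Finite G] (p : ℕ) [Fact p.Prime] (hp3 : 3 ≤ p)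
    (P : Sylow p G) (N : Subgroup G) [hNn : N.Normal] (hN : (Nat.card N).Coprime p)
    (C D : Set G) (hC : Subgroup.closure C = (P : Subgroup G))
    (hD : Subgroup.closure D = (P : Subgroup G))
    (h : ∀ x ∈ N, ∀ c ∈ C, ∀ d ∈ D, IsPGroup p ↥(Subgroup.closure ({x * c * x⁻¹, d} : Set G))) :
    (P : Subgroup G) ≤ Subgroup.centralizer (N : Set G) := by
  by_contra hcon
  have hPp : IsPGroup p (P : Subgroup G) := P.isPGroup'
  obtain ⟨N₁, ⟨hN₁N, hPN₁, hN₁c⟩, hmin⟩ := exists_minimal_of_wellFoundedLT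
    (fun M : Subgroup G => M ≤ N ∧ (P : Subgroup G) ≤ Subgroup.normalizer (M : Set G) ∧
      ¬ (P : Subgroup G) ≤ Subgroup.centralizer (M : Set G))
    ⟨N, le_refl _, by rw [Subgroup.normalizer_eq_top]; exact le_top, hcon⟩
  have hmin' : ∀ M : Subgroup G, M ≤ N₁ → M ≠ N₁ →
      (P : Subgroup G) ≤ Subgroup.normalizer (M : Set G) →
      (P : Subgroup G) ≤ Subgroup.centralizer (M : Set G) := by
    intro M hM hne hPM
    by_contra hc
    exact hne (le_antisymm hM (hmin ⟨hM.trans hN₁N, hPM, hc⟩ hM))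
  have hcopN₁ : (Nat.card N₁).Coprime p :=
    Nat.Coprime.coprime_dvd_left (Subgroup.card_dvd_of_le hN₁N) hN
  have hcop' : (Nat.card (P : Subgroup G)).Coprime (Nat.card N₁) := by
    obtain ⟨k, hk⟩ := IsPGroup.iff_card.mp hPp
    rw [hk]
    exact Nat.Coprime.pow_left k hcopN₁.symm
  have hsolvP : Group.IsSolvable ↥(P : Subgroup G) := by
    haveI := hPp.isNilpotent
    infer_instance
  have hN₁bot : N₁ ≠ ⊥ := by
    intro hb
    apply hN₁c
    rw [hb]
    intro t _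
    rw [Subgroup.mem_centralizer_iff]
    intro z hz
    rw [Subgroup.coe_bot, Set.mem_singleton_iff] at hz
    rw [hz, one_mul, mul_one]
  -- the derived subgroup of `N₁` is proper
  have hder : ⁅N₁, N₁⁆ ≠ N₁ := by
    intro hEq
    apply hN₁c
    rw [Subgroup.le_centralizer_iff]
    have hidx : ((N₁ ⊓ Subgroup.centralizer ((P : Subgroup G) : Set G)).subgroupOf N₁).index = 1 := by
      by_contra hne
      obtain ⟨q, hq, hqd⟩ := Nat.exists_prime_and_dvd hne
      haveI : Fact q.Prime := ⟨hq⟩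
      obtain ⟨Q, hQ⟩ := Lead.exists_invariant_sylow (P : Subgroup G) N₁ hPN₁ hcop' (Or.inl hsolvP) q
      have hQtop : (Q : Subgroup ↥N₁) ≠ ⊤ := by
        intro hQt
        have hq' : IsPGroup q ↥N₁ := by
          have h1 : IsPGroup q ↥(Q : Subgroup ↥N₁) := Q.isPGroup'
          rw [hQt] at h1
          exact h1.of_equiv Subgroup.topEquiv
        haveI : Nontrivial ↥N₁ := (Subgroup.nontrivial_iff_ne_bot N₁).mpr hN₁bot
        haveI : Group.IsNilpotent ↥N₁ := hq'.isNilpotent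
        have hlt : commutator ↥N₁ < ⊤ := Group.IsSolvable.commutator_lt_top_of_nontrivial ↥N₁
        have h2 : (commutator ↥N₁).map N₁.subtype = N₁ := by
          rw [Subgroup.map_subtype_commutator]; exact hEq
        apply hlt.ne
        apply Subgroup.map_injective N₁.subtype_injective
        rw [h2, ← MonoidHom.range_eq_map, Subgroup.range_subtype]
      have hQne : (Q : Subgroup ↥N₁).map N₁.subtype ≠ N₁ := by
        intro hh
        apply hQtop
        apply Subgroup.map_injective N₁.subtype_injective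
        rw [hh, ← MonoidHom.range_eq_map, Subgroup.range_subtype]
      have hQc := hmin' _ (Subgroup.map_subtype_le _) hQne hQ
      have hPle : (Q : Subgroup ↥N₁) ≤
          (N₁ ⊓ Subgroup.centralizer ((P : Subgroup G) : Set G)).subgroupOf N₁ := by
        intro z hz
        rw [Subgroup.mem_subgroupOf]
        exact Subgroup.mem_inf.mpr ⟨z.2, Subgroup.le_centralizer_iff.mp hQc ⟨z, hz, rfl⟩⟩
      exact Q.not_dvd_index (hqd.trans (Subgroup.index_dvd_of_le hPle))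
    have htop := Subgroup.index_eq_one.mp hidx
    exact (Subgroup.subgroupOf_eq_top.mp htop).trans inf_le_right
  have hderP : (P : Subgroup G) ≤ Subgroup.normalizer ((⁅N₁, N₁⁆ : Subgroup G) : Set G) := by
    intro t ht
    apply mem_normalizer_of_forall_conj_mem
    have hle : ⁅N₁, N₁⁆ ≤ (⁅N₁, N₁⁆).comap (MulAut.conj t).toMonoidHom := by
      rw [Subgroup.commutator_le]
      intro x hx y hy
      rw [Subgroup.mem_comap]
      show t * ⁅x, y⁆ * t⁻¹ ∈ ⁅N₁, N₁⁆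
      have h1 : t * ⁅x, y⁆ * t⁻¹ = ⁅t * x * t⁻¹, t * y * t⁻¹⁆ := by
        simp only [commutatorElement_def]; group
      rw [h1]
      exact Subgroup.commutator_mem_commutator
        ((Subgroup.mem_normalizer_iff.mp (hPN₁ ht) x).mp hx)
        ((Subgroup.mem_normalizer_iff.mp (hPN₁ ht) y).mp hy)
    intro a ha
    exact hle ha
  obtain ⟨N₂, ⟨hdN₂, hN₂N₁, hN₂ne, hPN₂⟩, hmax⟩ := exists_maximal_of_wellFoundedGT
    (fun M : Subgroup G => ⁅N₁, N₁⁆ ≤ M ∧ M ≤ N₁ ∧ M ≠ N₁ ∧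
      (P : Subgroup G) ≤ Subgroup.normalizer (M : Set G))
    ⟨⁅N₁, N₁⁆, le_refl _, Lead.commutator_le_of_le_normalizer N₁ N₁ Subgroup.le_normalizer,
      hder, hderP⟩
  have hN₂cent : (P : Subgroup G) ≤ Subgroup.centralizer (N₂ : Set G) :=
    hmin' N₂ hN₂N₁ hN₂ne hPN₂
  haveI hnorm : (N₂.subgroupOf N₁).Normal := by
    refine ⟨fun n hn g => ?_⟩
    rw [Subgroup.mem_subgroupOf] at hn ⊢
    have h1 : ((g * n * g⁻¹ : ↥N₁) : G) = ⁅(g : G), (n : G)⁆ * n := by
      simp only [Subgroup.coe_mul, Subgroup.coe_inv, commutatorElement_def]; group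
    rw [h1]
    exact N₂.mul_mem (hdN₂ (Subgroup.commutator_mem_commutator g.2 n.2)) hn
  have hVcomm : ∀ a b : ↥N₁ ⧸ N₂.subgroupOf N₁, a * b = b * a := by
    intro a b
    obtain ⟨a, rfl⟩ := QuotientGroup.mk_surjective a
    obtain ⟨b, rfl⟩ := QuotientGroup.mk_surjective b
    rw [← QuotientGroup.mk_mul, ← QuotientGroup.mk_mul, QuotientGroup.eq, Subgroup.mem_subgroupOf]
    have h1 : (((a * b)⁻¹ * (b * a) : ↥N₁) : G) = ⁅(b : G)⁻¹, (a : G)⁻¹⁆ := by
      simp only [Subgroup.coe_mul, Subgroup.coe_inv, commutatorElement_def]; group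
    rw [h1]
    exact hdN₂ (Subgroup.commutator_mem_commutator (N₁.inv_mem b.2) (N₁.inv_mem a.2))
  letI cg : CommGroup (↥N₁ ⧸ N₂.subgroupOf N₁) :=
    { (inferInstance : Group (↥N₁ ⧸ N₂.subgroupOf N₁)) with mul_comm := hVcomm }
  obtain ⟨ρ, hρ⟩ : ∃ ρ : ↥(P : Subgroup G) →* MulAut (↥N₁ ⧸ N₂.subgroupOf N₁),
      ρ = secHom (P : Subgroup G) N₁ N₂ hPN₁ hPN₂ := ⟨_, rfl⟩
  have hρmk : ∀ (t : ↥(P : Subgroup G)) (n : ↥N₁), ρ t (QuotientGroup.mk n) =
      QuotientGroup.mk (⟨(t : G) * n * (t : G)⁻¹,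
        (Subgroup.mem_normalizer_iff.mp (hPN₁ t.2) n).mp n.2⟩ : ↥N₁) := by
    intro t n
    rw [hρ]
    rfl
  have hker : ρ.ker ≠ ⊤ := by
    intro hk
    apply hN₁c
    rw [Subgroup.le_centralizer_iff]
    intro n hn
    have hcom : ⁅N₁, (P : Subgroup G)⁆ ≤ N₂ := by
      rw [Subgroup.commutator_le]
      intro x hx t ht
      have h1 : ρ ⟨t, ht⟩ = 1 := by
        have h0 : (⟨t, ht⟩ : ↥(P : Subgroup G)) ∈ ρ.ker := by rw [hk]; exact Subgroup.mem_top _
        exact MonoidHom.mem_ker.mp h0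
      have h2 := hρmk ⟨t, ht⟩ ⟨x⁻¹, N₁.inv_mem hx⟩
      rw [h1, MulAut.one_apply, QuotientGroup.eq, Subgroup.mem_subgroupOf] at h2
      have h3 : ⁅x, t⁆ = x * (t * x⁻¹ * t⁻¹) := by rw [commutatorElement_def]; group
      rw [h3]
      simpa using h2
    obtain ⟨d, hd, c, hc, rfl⟩ := Lead.exists_commutator_mul_centralizer (P : Subgroup G) N₁ hPN₁
      hcop' (Or.inl hsolvP) hn
    exact Subgroup.mul_mem _ (Subgroup.le_centralizer_iff.mp hN₂cent (hcom hd)) hc.2
  haveI : Nontrivial (↥(P : Subgroup G) ⧸ ρ.ker) := QuotientGroup.nontrivial_iff.mpr hker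
  have hclos : ∀ S : Set G, Subgroup.closure S = (P : Subgroup G) →
      Subgroup.closure ((QuotientGroup.mk' ρ.ker) '' (Subtype.val ⁻¹' S)) = ⊤ := by
    intro S hS
    have hSP : S ⊆ (P : Subgroup G) := by rw [← hS]; exact Subgroup.subset_closure
    have h1 : Subgroup.closure (Subtype.val ⁻¹' S : Set ↥(P : Subgroup G)) = ⊤ := by
      apply Subgroup.map_injective (P : Subgroup G).subtype_injective
      rw [MonoidHom.map_closure, ← MonoidHom.range_eq_map, Subgroup.range_subtype]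
      have h0 : ((P : Subgroup G).subtype '' (Subtype.val ⁻¹' S)) = S :=
        Set.ext fun x => ⟨by rintro ⟨y, hy, rfl⟩; exact hy, fun hx => ⟨⟨x, hSP hx⟩, hx, rfl⟩⟩
      rw [h0, hS]
    rw [← MonoidHom.map_closure, h1, ← MonoidHom.range_eq_map]
    exact MonoidHom.range_eq_top.mpr (QuotientGroup.mk'_surjective _)
  refine twoGen_core hp3 (Q := ↥(P : Subgroup G) ⧸ ρ.ker) (V := ↥N₁ ⧸ N₂.subgroupOf N₁)
    (hPp.to_quotient ρ.ker) (QuotientGroup.kerLift ρ) (QuotientGroup.kerLift_injective ρ) ?_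
    ((QuotientGroup.mk' ρ.ker) '' (Subtype.val ⁻¹' C))
    ((QuotientGroup.mk' ρ.ker) '' (Subtype.val ⁻¹' D)) (hclos C hC) (hclos D hD) ?_
  · intro M' hinv
    have hinv' : ∀ (t : ↥(P : Subgroup G)) (v : ↥N₁ ⧸ N₂.subgroupOf N₁), v ∈ M' → ρ t v ∈ M' := by
      intro t v hv
      have h0 := hinv (QuotientGroup.mk t) v hv
      rwa [QuotientGroup.kerLift_mk] at h0
    obtain ⟨M, hM⟩ : ∃ M : Subgroup G,
        M = (M'.comap (QuotientGroup.mk' (N₂.subgroupOf N₁))).map N₁.subtype := ⟨_, rfl⟩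
    have hmemM : ∀ n : G, n ∈ M ↔
        ∃ hn : n ∈ N₁, (QuotientGroup.mk (⟨n, hn⟩ : ↥N₁) : ↥N₁ ⧸ N₂.subgroupOf N₁) ∈ M' := by
      intro n
      rw [hM]
      constructor
      · rintro ⟨n', hn', rfl⟩
        exact ⟨n'.2, hn'⟩
      · rintro ⟨hn, hn'⟩
        exact ⟨⟨n, hn⟩, hn', rfl⟩
    have hMN₁ : M ≤ N₁ := by rw [hM]; exact Subgroup.map_subtype_le _
    have hN₂M : N₂ ≤ M := by
      intro n hn
      rw [hmemM]
      refine ⟨hN₂N₁ hn, ?_⟩
      have h0 : (QuotientGroup.mk (⟨n, hN₂N₁ hn⟩ : ↥N₁) : ↥N₁ ⧸ N₂.subgroupOf N₁) = 1 :=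
        (QuotientGroup.eq_one_iff _).mpr (Subgroup.mem_subgroupOf.mpr hn)
      rw [h0]; exact M'.one_mem
    have hPM : (P : Subgroup G) ≤ Subgroup.normalizer (M : Set G) := by
      intro t ht
      apply mem_normalizer_of_forall_conj_mem
      intro n hn
      rw [hmemM] at hn ⊢
      obtain ⟨hn1, hn2⟩ := hn
      refine ⟨(Subgroup.mem_normalizer_iff.mp (hPN₁ ht) n).mp hn1, ?_⟩
      have h0 := hinv' ⟨t, ht⟩ _ hn2
      rw [hρmk] at h0
      exact h0
    by_cases hMeq : M = N₁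
    · right
      rw [eq_top_iff]
      intro v _
      obtain ⟨n, rfl⟩ := QuotientGroup.mk_surjective v
      have h1 : (n : G) ∈ M := by rw [hMeq]; exact n.2
      obtain ⟨_, h2⟩ := (hmemM _).mp h1
      exact h2
    · left
      have hMN₂ : M ≤ N₂ := hmax ⟨hdN₂.trans hN₂M, hMN₁, hMeq, hPM⟩ hN₂M
      rw [eq_bot_iff]
      intro v hv
      obtain ⟨n, rfl⟩ := QuotientGroup.mk_surjective v
      rw [Subgroup.mem_bot]
      refine (QuotientGroup.eq_one_iff _).mpr (Subgroup.mem_subgroupOf.mpr (hMN₂ ?_))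
      rw [hmemM]
      exact ⟨n.2, hv⟩
  · rintro _ ⟨c, hc, rfl⟩ _ ⟨d, hd, rfl⟩ x
    obtain ⟨x, rfl⟩ := QuotientGroup.mk_surjective x
    obtain ⟨y, hy, w, hw, hyd, hwc, hxyw⟩ := twoGen_fact P N hN N₁ hN₁N hPN₁ c.2 d.2 x.2
      (h x (hN₁N x.2) c hc d hd)
    refine ⟨QuotientGroup.mk (⟨y, hy⟩ : ↥N₁), QuotientGroup.mk (⟨w, hw⟩ : ↥N₁), ?_, ?_, ?_⟩
    · rw [QuotientGroup.mk'_apply, QuotientGroup.kerLift_mk, hρmk]
      congr 1
      apply Subtype.ext
      show (d : G) * y * (d : G)⁻¹ = y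
      rw [← hyd, mul_inv_cancel_right]
    · rw [QuotientGroup.mk'_apply, QuotientGroup.kerLift_mk, hρmk]
      congr 1
      apply Subtype.ext
      show (c : G) * w * (c : G)⁻¹ = w
      rw [← hwc, mul_inv_cancel_right]
    · rw [← QuotientGroup.mk_mul]
      congr 1
      exact Subtype.ext hxyw

end Cfsg.Agent.Lib.Helper3
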